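import Groth.Agent.IsoNat.K863.Abel

/-!
# The isomorphism of abelian automorphism groups determined by an isomorphism of presheaves of classes
-/

set_option autoImplicit false
set_option backward.isDefEq.respectTransparency false
set_option backward.isDefEq.respectTransparency.types false

universe u

open CategoryTheory CategoryTheory.Limits AlgebraicGeometry Opposite

namespace K863.AutEquiv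

open K863.Arr K863.Frame K863.Rel K863.KSet K863.Corr K863.Abel K864.Prd K864.Cross

variable {S : Scheme.{u}} {𝒳 𝒴 : AlgSt.Cat S}

/-- In the abelian case frames may be changed by an arbitrary automorphism. -/
theorem RelF.chg {hp : FibCat.IsFibGrpd 𝒳.p} {T : Over S} {η : 𝒳.p.Fiber T}
    (hab : ∀ (Z : Scheme.{u}) (h k : E hp η Z ⟶ E hp η Z), h ≫ k = k ≫ h)
    {D : Scheme.{u}} {k₁ k₂ : Cr.{u} ⟶ D} {a : η ⟶ η} {F : 𝒳.obj}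
    {ζ₁ ζ₂ : (E hp η Cr.{u}).1 ⟶ F} (h : RelF hp η k₁ k₂ a ζ₁ ζ₂) (t : E hp η Cr.{u} ⟶ E hp η Cr) :
    RelF hp η k₁ k₂ a (t.1 ≫ ζ₁) (t.1 ≫ ζ₂) where
  lift₁ := lift_id_comp t.2 h.lift₁
  lift₂ := lift_id_comp t.2 h.lift₂
  e₁ := by
    rw [← Category.assoc, ← Category.assoc, ← r_fac, Category.assoc, Category.assoc, h.e₁]
  e₂ := by
    have e1 : (c hp η Cr.{u} a).1 ≫ t.1 ≫ ζ₁ = t.1 ≫ (c hp η Cr a).1 ≫ ζ₁ := by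
      rw [← Category.assoc, ← comp_val, hab, comp_val, Category.assoc]
    rw [e1, ← Category.assoc, ← r_fac, Category.assoc, h.e₂, ← Category.assoc, r_fac,
      Category.assoc]

/-- The correspondence of endomorphisms of `η` and `η'`. -/
def Th (φ : IsoNat.FIso 𝒳 𝒴) (h𝒳 : FibCat.IsFibGrpd 𝒳.p) (h𝒴 : FibCat.IsFibGrpd 𝒴.p) {T : Over S}
    {η : 𝒳.p.Fiber T} {η' : 𝒴.p.Fiber T} (a : η ⟶ η) (a' : η' ⟶ η') : Prop :=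
  ∃ (F : 𝒳.obj) (F' : 𝒴.obj) (hF : 𝒳.p.obj F = prd T D2.{u}) (hF' : 𝒴.p.obj F' = prd T D2.{u}),
    Corr φ hF hF' ∧ R h𝒳 η i₁.{u} i₂ a F ∧ R h𝒴 η' i₁.{u} i₂ a' F'

section

variable {φ : IsoNat.FIso 𝒳 𝒴} (h𝒳 : Stk.IsStack (AlgSp.J S) 𝒳) (h𝒴 : Stk.IsStack (AlgSp.J S) 𝒴)
  (hd𝒳 : AlgSt.RepByAlgSpWith (AlgSp.IsSeparatedMor ⊓ AlgSp.IsQuasiCompactMor)
      (FibCat.diag (FibCat.toSelf 𝒳)))
  (hd𝒴 : AlgSt.RepByAlgSpWith (AlgSp.IsSeparatedMor ⊓ AlgSp.IsQuasiCompactMor)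
      (FibCat.diag (FibCat.toSelf 𝒴)))
  {T : Over S} {η : 𝒳.p.Fiber T} {η' : 𝒴.p.Fiber T} (hη : Corr φ η.2 η'.2)

include hη in
theorem exists_Th (a : η ⟶ η) : ∃ a' : η' ⟶ η', Th φ h𝒳.1 h𝒴.1 a a' := by
  obtain ⟨F, hR⟩ := exists_R h𝒳 η a
  have hF : 𝒳.p.obj F = prd T D2.{u} := by obtain ⟨ζ₁, ζ₂, h⟩ := hR; exact cod h.lift₁
  obtain ⟨F', hF', hc⟩ := exists_right φ hF
  obtain ⟨a', ha'⟩ := (K_right h𝒳.1 h𝒴.1 hη hc (K_of_R h𝒳 hR)).exists_R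
  exact ⟨a', F, F', hF, hF', hc, hR, ha'⟩

include hη in
theorem exists_Th' (a' : η' ⟶ η') : ∃ a : η ⟶ η, Th φ h𝒳.1 h𝒴.1 a a' := by
  obtain ⟨F', hR⟩ := exists_R h𝒴 η' a'
  have hF' : 𝒴.p.obj F' = prd T D2.{u} := by obtain ⟨ζ₁, ζ₂, h⟩ := hR; exact cod h.lift₁
  obtain ⟨F, hF, hc⟩ := exists_left φ hF'
  obtain ⟨a, ha⟩ := (K_left h𝒳.1 h𝒴.1 hη hc (K_of_R h𝒴 hR)).exists_R
  exact ⟨a, F, F', hF, hF', hc, ha, hR⟩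

theorem R.of_iso {hp : FibCat.IsFibGrpd 𝒳.p} {a : η ⟶ η} {F F' : 𝒳.obj}
    (h : R hp η i₁.{u} i₂ a F) (θ : F ⟶ F') (hθ : 𝒳.p.IsHomLift (𝟙 (prd T D2.{u})) θ) :
    R hp η i₁.{u} i₂ a F' := by
  obtain ⟨ζ₁, ζ₂, h⟩ := h
  exact ⟨_, _, h.iso θ hθ⟩

include hd𝒴 in
theorem Th.right_unique (hab' : ∀ h k : η' ⟶ η', h ≫ k = k ≫ h) {a : η ⟶ η} {a' b' : η' ⟶ η'}
    (h : Th φ h𝒳.1 h𝒴.1 a a') (h' : Th φ h𝒳.1 h𝒴.1 a b') : a' = b' := by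
  obtain ⟨F, F', hF, hF', hc, r, r'⟩ := h
  obtain ⟨G, G', hG, hG', hc', s, s'⟩ := h'
  obtain ⟨θ, hθ⟩ := R_iso h𝒳 η r s
  obtain ⟨κ, hκ⟩ := vert_right h𝒳.1 h𝒴.1 hc' hc θ hθ
  obtain ⟨t, ht⟩ := (R.of_iso r' κ hκ).uniq h𝒴.1 hd𝒴 s'
  have it := isIso_fib h𝒴.1 t
  rw [hab' t a'] at ht
  exact ((cancel_mono t).1 ht).symm

include hd𝒳 in
theorem Th.left_unique (hab : ∀ h k : η ⟶ η, h ≫ k = k ≫ h) {a b : η ⟶ η} {a' : η' ⟶ η'}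
    (h : Th φ h𝒳.1 h𝒴.1 a a') (h' : Th φ h𝒳.1 h𝒴.1 b a') : a = b := by
  obtain ⟨F, F', hF, hF', hc, r, r'⟩ := h
  obtain ⟨G, G', hG, hG', hc', s, s'⟩ := h'
  obtain ⟨θ, hθ⟩ := R_iso h𝒴 η' r' s'
  obtain ⟨κ, hκ⟩ := vert_left h𝒳.1 h𝒴.1 hc' hc θ hθ
  obtain ⟨t, ht⟩ := (R.of_iso r κ hκ).uniq h𝒳.1 hd𝒳 s
  have it := isIso_fib h𝒳.1 t
  rw [hab t a] at ht
  exact ((cancel_mono t).1 ht).symm

/-- A relation `Th a a'` computed with any glued objects in correspondence. -/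
theorem Th.transfer {a : η ⟶ η} {a' : η' ⟶ η'} (h : Th φ h𝒳.1 h𝒴.1 a a') {F : 𝒳.obj} {F' : 𝒴.obj}
    {hF : 𝒳.p.obj F = prd T D2.{u}} {hF' : 𝒴.p.obj F' = prd T D2.{u}} (hc : Corr φ hF hF')
    (hr : R h𝒳.1 η i₁.{u} i₂ a F) : R h𝒴.1 η' i₁.{u} i₂ a' F' := by
  obtain ⟨G, G', hG, hG', hc', r, r'⟩ := h
  obtain ⟨θ, hθ⟩ := R_iso h𝒳 η r hr
  obtain ⟨κ, hκ⟩ := vert_right h𝒳.1 h𝒴.1 hc hc' θ hθ
  exact R.of_iso r' κ hκ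

theorem Th.mul (hab' : ∀ (Z : Scheme.{u}) (h k : E h𝒴.1 η' Z ⟶ E h𝒴.1 η' Z), h ≫ k = k ≫ h)
    {a b : η ⟶ η} {a' b' : η' ⟶ η'} (h : Th φ h𝒳.1 h𝒴.1 a a') (h' : Th φ h𝒳.1 h𝒴.1 b b') :
    Th φ h𝒳.1 h𝒴.1 (b ≫ a) (b' ≫ a') := by
  have hp := h𝒳.1
  have hp' := h𝒴.1
  obtain ⟨F, ζ₁, ζ₂, ζ₃, f12, f23⟩ := exists_R3 h𝒳 η a b
  have f13 := f12.trans f23
  have hF : 𝒳.p.obj F = prd T D3.{u} := cod f12.lift₁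
  obtain ⟨F', hF', hc⟩ := exists_right φ hF
  -- restriction along `d₁₂`
  obtain ⟨G, γ, hγ⟩ := exists_lift hp hF (mapR T d₁₂.{u})
  obtain ⟨_, _, -, -, r12⟩ := f12.restr γ hγ v₁_i v₂_i
  obtain ⟨G', hG', cG⟩ := exists_right φ (dom hγ)
  obtain ⟨γ', hγ'⟩ := arrow_right hp' hc cG γ hγ
  obtain ⟨ξ₁, ξ₂, q12⟩ := Th.transfer h𝒳 h𝒴 h cG ⟨_, _, r12⟩
  have p12 := q12.postcomp d₁₂ γ' hγ'
  -- restriction along `d₂₃`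
  obtain ⟨H, δ, hδ⟩ := exists_lift hp hF (mapR T d₂₃.{u})
  have f23' : RelF hp η (i₁ ≫ d₂₃) (i₂ ≫ d₂₃) b ζ₂ ζ₃ := by rw [i₁_d₂₃, i₂_d₂₃]; exact f23
  obtain ⟨_, _, -, -, r23⟩ := f23'.restr δ hδ v₁_i v₂_i
  obtain ⟨H', hH', cH⟩ := exists_right φ (dom hδ)
  obtain ⟨δ', hδ'⟩ := arrow_right hp' hc cH δ hδ
  obtain ⟨χ₂, χ₃, q23⟩ := Th.transfer h𝒳 h𝒴 h' cH ⟨_, _, r23⟩
  have p23 := q23.postcomp d₂₃ δ' hδ'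
  rw [i₁_d₂₃, i₂_d₂₃] at p23
  -- matching the middle frames
  obtain ⟨k, hk⟩ := exists_diff p23.lift₁ p12.lift₂
  have p23' := RelF.chg hab' p23 k
  rw [hk] at p23'
  have p13 := p12.trans p23'
  -- restriction along `d₁₃`
  obtain ⟨M, μ, hμ⟩ := exists_lift hp hF (mapR T d₁₃.{u})
  have f13' : RelF hp η (i₁ ≫ d₁₃) (i₂ ≫ d₁₃) (b ≫ a) ζ₁ ζ₃ := by rw [i₁_d₁₃, i₂_d₁₃]; exact f13
  obtain ⟨_, _, -, -, r13⟩ := f13'.restr μ hμ v₁_i v₂_i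
  obtain ⟨M', hM', cM⟩ := exists_right φ (dom hμ)
  obtain ⟨μ', hμ'⟩ := arrow_right hp' hc cM μ hμ
  rw [← i₁_d₁₃, ← i₂_d₁₃] at p13
  obtain ⟨_, _, -, -, q13⟩ := p13.restr μ' hμ' v₁_i v₂_i
  exact ⟨M, M', dom hμ, hM', cM, ⟨_, _, r13⟩, ⟨_, _, q13⟩⟩

include h𝒳 h𝒴 hd𝒳 hd𝒴 hη in
theorem main (hab : IsoNat.IsAutAbelian η) : Nonempty (Aut η ≃* Aut η') := by
  have hab' : IsoNat.IsAutAbelian η' := abelian_right h𝒳 h𝒴 hd𝒴 hη hab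
  have ex : ∀ a : Aut η, ∃ a' : Aut η', Th φ h𝒳.1 h𝒴.1 a.hom a'.hom := by
    intro a
    obtain ⟨a', ha'⟩ := exists_Th h𝒳 h𝒴 hη a.hom
    have := isIso_fib h𝒴.1 a'
    exact ⟨asIso a', ha'⟩
  have ex' : ∀ a' : Aut η', ∃ a : Aut η, Th φ h𝒳.1 h𝒴.1 a.hom a'.hom := by
    intro a'
    obtain ⟨a, ha⟩ := exists_Th' h𝒳 h𝒴 hη a'.hom
    have := isIso_fib h𝒳.1 a
    exact ⟨asIso a, ha⟩
  choose f hf using ex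
  choose g hg using ex'
  have ru : ∀ {a : Aut η} {a' b' : Aut η'}, Th φ h𝒳.1 h𝒴.1 a.hom a'.hom →
      Th φ h𝒳.1 h𝒴.1 a.hom b'.hom → a' = b' := fun h h' =>
    Iso.ext (Th.right_unique h𝒳 h𝒴 hd𝒴 (comm_self h𝒴.1 hab') h h')
  have lu : ∀ {a b : Aut η} {a' : Aut η'}, Th φ h𝒳.1 h𝒴.1 a.hom a'.hom →
      Th φ h𝒳.1 h𝒴.1 b.hom a'.hom → a = b := fun h h' =>
    Iso.ext (Th.left_unique h𝒳 h𝒴 hd𝒳 (comm_self h𝒳.1 hab) h h')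
  exact ⟨{ toFun := f
           invFun := g
           left_inv := fun a => lu (hg (f a)) (hf a)
           right_inv := fun a' => ru (hf (g a')) (hg a')
           map_mul' := fun a b => ru (hf (a * b))
             (Th.mul h𝒳 h𝒴 (comm_E h𝒴.1 hab') (hf a) (hf b)) }⟩

end

end K863.AutEquiv
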