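import Groth.Agent.IsoNat.K863.KSet

/-!
# Recovering an abelian automorphism group from the presheaf of isomorphism classes
-/

set_option autoImplicit false
set_option backward.isDefEq.respectTransparency false
set_option backward.isDefEq.respectTransparency.types false

universe u

open CategoryTheory CategoryTheory.Limits AlgebraicGeometry Opposite

namespace K863.Abel

open K863.Arr K863.Frame K863.Rel K863.KSet K863.Corr K864.Prd K864.Cross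

variable {S : Scheme.{u}} {𝒳 𝒴 : AlgSt.Cat S}

/-! ### Commuting automorphisms -/

section Comm

theorem comm_of_aut (hp : FibCat.IsFibGrpd 𝒳.p) {T T' : Over S} {η : 𝒳.p.Fiber T}
    (hab : IsoNat.IsAutAbelian η) {x : 𝒳.p.Fiber T'} (f : x.1 ⟶ η.1) (h k : x ⟶ x) :
    h ≫ k = k ≫ h := by
  have ih := isIso_fib hp h
  have ik := isIso_fib hp k
  have := congrArg (fun q : Aut x => q.hom) (hab T' x f (asIso k) (asIso h))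
  exact this

/-- The commutation of endomorphisms of `η` itself. -/
theorem comm_self (hp : FibCat.IsFibGrpd 𝒳.p) {T : Over S} {η : 𝒳.p.Fiber T}
    (hab : IsoNat.IsAutAbelian η) (h k : η ⟶ η) : h ≫ k = k ≫ h :=
  comm_of_aut hp hab (𝟙 _) h k

theorem comm_E (hp : FibCat.IsFibGrpd 𝒳.p) {T : Over S} {η : 𝒳.p.Fiber T}
    (hab : IsoNat.IsAutAbelian η) (Z : Scheme.{u}) (h k : E hp η Z ⟶ E hp η Z) :
    h ≫ k = k ≫ h :=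
  comm_of_aut hp hab (ε hp η Z) h k

end Comm

/-! ### Transfer -/

section Transfer

variable {φ : IsoNat.FIso 𝒳 𝒴} (h𝒳 : FibCat.IsFibGrpd 𝒳.p) (h𝒴 : FibCat.IsFibGrpd 𝒴.p)
  {T : Over S} {η : 𝒳.p.Fiber T} {η' : 𝒴.p.Fiber T} (hη : Corr φ η.2 η'.2)

include hη in
theorem corr_E (Z : Scheme.{u}) : Corr φ (E h𝒳 η Z).2 (E h𝒴 η' Z).2 := by
  obtain ⟨y, hy, h⟩ := exists_right φ (E h𝒳 η Z).2
  obtain ⟨b, hb⟩ := arrow_right h𝒴 hη h (ε h𝒳 η Z) (ε_lift h𝒳 η Z)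
  obtain ⟨c, hc, -⟩ := exists_vert h𝒴 hb (ε_lift h𝒴 η' Z)
  have e : IsoNat.cls (𝒳 := 𝒴) (⟨y, hy⟩ : 𝒴.p.Fiber (prd T Z)) = IsoNat.cls (E h𝒴 η' Z) :=
    ((cls_eq_iff h𝒴 (E h𝒴 η' Z) (⟨y, hy⟩ : 𝒴.p.Fiber (prd T Z))).2 ⟨c, hc⟩).symm
  exact h.trans e

include hη in
theorem agr_right {Z D : Scheme.{u}} {k : Z ⟶ D} {F : 𝒳.obj} {F' : 𝒴.obj} {hF : 𝒳.p.obj F = prd T D}
    {hF' : 𝒴.p.obj F' = prd T D} (hc : Corr φ hF hF') (h : Agr h𝒳 η k F) : Agr h𝒴 η' k F' := by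
  obtain ⟨β, hβ⟩ := h
  exact arrow_right h𝒴 hc (corr_E h𝒳 h𝒴 hη Z) β hβ

include hη in
theorem agr_left {Z D : Scheme.{u}} {k : Z ⟶ D} {F : 𝒳.obj} {F' : 𝒴.obj} {hF : 𝒳.p.obj F = prd T D}
    {hF' : 𝒴.p.obj F' = prd T D} (hc : Corr φ hF hF') (h : Agr h𝒴 η' k F') : Agr h𝒳 η k F := by
  obtain ⟨β, hβ⟩ := h
  exact arrow_left h𝒳 h𝒴 hc (corr_E h𝒳 h𝒴 hη Z) β hβ

include hη in
theorem K_right {F : 𝒳.obj} {F' : 𝒴.obj} {hF : 𝒳.p.obj F = prd T D2.{u}}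
    {hF' : 𝒴.p.obj F' = prd T D2.{u}} (hc : Corr φ hF hF') (h : K h𝒳 η F) : K h𝒴 η' F' where
  a₁ := agr_right h𝒳 h𝒴 hη hc h.a₁
  a₂ := agr_right h𝒳 h𝒴 hη hc h.a₂
  c₁ := agr_right h𝒳 h𝒴 hη hc h.c₁
  c₂ := agr_right h𝒳 h𝒴 hη hc h.c₂

include hη in
theorem K_left {F : 𝒳.obj} {F' : 𝒴.obj} {hF : 𝒳.p.obj F = prd T D2.{u}}
    {hF' : 𝒴.p.obj F' = prd T D2.{u}} (hc : Corr φ hF hF') (h : K h𝒴 η' F') : K h𝒳 η F where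
  a₁ := agr_left h𝒳 h𝒴 hη hc h.a₁
  a₂ := agr_left h𝒳 h𝒴 hη hc h.a₂
  c₁ := agr_left h𝒳 h𝒴 hη hc h.c₁
  c₂ := agr_left h𝒳 h𝒴 hη hc h.c₂

end Transfer

theorem v₁_i : v₁.{u} ≫ i₁ = v₁ ≫ i₂ := by
  rw [← w₁_ι, Category.assoc, Category.assoc, isPullback_D2.{u}.w]

theorem v₂_i : v₂.{u} ≫ i₁ = v₂ ≫ i₂ := by
  rw [← w₂_ι, Category.assoc, Category.assoc, isPullback_D2.{u}.w]

/-! ### Being abelian -/

section Abelian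

variable {φ : IsoNat.FIso 𝒳 𝒴} (h𝒳 : Stk.IsStack (AlgSp.J S) 𝒳) (h𝒴 : Stk.IsStack (AlgSp.J S) 𝒴)
  (hd𝒴 : AlgSt.RepByAlgSpWith (AlgSp.IsSeparatedMor ⊓ AlgSp.IsQuasiCompactMor)
      (FibCat.diag (FibCat.toSelf 𝒴)))

include h𝒳 h𝒴 hd𝒴 in
theorem comm_right {T : Over S} {η : 𝒳.p.Fiber T} {η' : 𝒴.p.Fiber T} (hη : Corr φ η.2 η'.2)
    (hab : IsoNat.IsAutAbelian η) (s t : η' ⟶ η') : s ≫ t = t ≫ s := by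
  have hp := h𝒴.1
  obtain ⟨t', ht, ht'⟩ := exists_inv hp t
  obtain ⟨s', hs, hs'⟩ := exists_inv hp s
  let q := t ≫ s ≫ t'
  have hq : q ≫ t = t ≫ s := by
    change (t ≫ s ≫ t') ≫ t = _
    rw [Category.assoc, Category.assoc, ht', Category.comp_id]
  obtain ⟨F, ζ₁, ζ₂, ζ₃, f12, f23⟩ := exists_R3 h𝒴 η' s (𝟙 _)
  obtain ⟨F', ζ₁', ζ₂', ζ₃', g12, g23⟩ := exists_R3 h𝒴 η' s (q ≫ s')
  have f13 := f12.trans f23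
  have g13 := g12.trans g23
  rw [Category.id_comp] at f13
  rw [Category.assoc, hs', Category.comp_id] at g13
  have hF : 𝒴.p.obj F = prd T D3.{u} := cod f12.lift₁
  have hF' : 𝒴.p.obj F' = prd T D3.{u} := cod g12.lift₁
  -- restrictions along d₁₂
  obtain ⟨G₁, γ₁, hγ₁⟩ := exists_lift hp hF (mapR T d₁₂.{u})
  obtain ⟨G₂, γ₂, hγ₂⟩ := exists_lift hp hF' (mapR T d₁₂.{u})
  obtain ⟨_, _, -, -, r1⟩ := f12.restr γ₁ hγ₁ v₁_i v₂_i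
  obtain ⟨_, _, -, -, r2⟩ := g12.restr γ₂ hγ₂ v₁_i v₂_i
  obtain ⟨θ, hθ⟩ := R_iso h𝒴 η' ⟨_, _, r1⟩ ⟨_, _, r2⟩
  -- restrictions along d₁₃
  obtain ⟨H₁, δ₁, hδ₁⟩ := exists_lift hp hF (mapR T d₁₃.{u})
  obtain ⟨H₂, δ₂, hδ₂⟩ := exists_lift hp hF' (mapR T d₁₃.{u})
  have f13' : RelF hp η' (i₁ ≫ d₁₃) (i₂ ≫ d₁₃) s ζ₁ ζ₃ := by rw [i₁_d₁₃, i₂_d₁₃]; exact f13
  have g13' : RelF hp η' (i₁ ≫ d₁₃) (i₂ ≫ d₁₃) q ζ₁' ζ₃' := by rw [i₁_d₁₃, i₂_d₁₃]; exact g13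
  obtain ⟨_, _, -, -, r3⟩ := f13'.restr δ₁ hδ₁ v₁_i v₂_i
  obtain ⟨_, _, -, -, r4⟩ := g13'.restr δ₂ hδ₂ v₁_i v₂_i
  obtain ⟨κ, hκ⟩ := R_iso h𝒴 η' ⟨_, _, r3.conj hq⟩ ⟨_, _, r4⟩
  -- transfer to 𝒳
  obtain ⟨X, hX, cX⟩ := exists_left φ hF
  obtain ⟨X', hX', cX'⟩ := exists_left φ hF'
  obtain ⟨Y, hY, cY⟩ := exists_left φ (dom hγ₁)
  obtain ⟨Z, hZ, cZ⟩ := exists_left φ (dom hδ₁)
  obtain ⟨ξ₁, lξ₁⟩ := arrow_left h𝒳.1 hp cX (corr_E h𝒳.1 hp hη Cr) ζ₁ f13.lift₁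
  obtain ⟨ξ₃, lξ₃⟩ := arrow_left h𝒳.1 hp cX (corr_E h𝒳.1 hp hη Cr) ζ₃ f13.lift₂
  obtain ⟨a1, la1⟩ := arrow_left h𝒳.1 hp cX cY γ₁ hγ₁
  obtain ⟨a2, la2⟩ := arrow_left h𝒳.1 hp cX' cY (θ ≫ γ₂) (lift_id_comp hθ hγ₂)
  obtain ⟨a3, la3⟩ := arrow_left h𝒳.1 hp cX cZ δ₁ hδ₁
  obtain ⟨a4, la4⟩ := arrow_left h𝒳.1 hp cX' cZ (κ ≫ δ₂) (lift_id_comp hκ hδ₂)
  obtain ⟨ψ, hψ⟩ := iso_of_agree h𝒳 (fun Z h k => comm_E h𝒳.1 hab Z h k) lξ₁ lξ₃ la1 la2 la3 la4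
  obtain ⟨χ, hχ⟩ := vert_right h𝒳.1 hp cX' cX ψ hψ
  obtain ⟨t₀, e1, e2⟩ := eq_one_of_iso h𝒴 hd𝒴 f12 f23 g12 g23 hχ
  rw [Category.comp_id] at e2
  have i₀ := isIso_fib hp t₀
  have e3 : q ≫ s' = 𝟙 _ := by
    rw [← cancel_mono t₀, Category.id_comp]; exact e2
  have e4 : q = s := by
    have := congrArg (fun w => w ≫ s) e3
    simp only [Category.assoc, Category.id_comp] at this
    rw [hs', Category.comp_id] at this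
    exact this
  rw [e4] at hq
  exact hq

include h𝒳 h𝒴 hd𝒴 in
/-- The abelian property transfers from `η` to `η'`. -/
theorem abelian_right {T : Over S} {η : 𝒳.p.Fiber T} {η' : 𝒴.p.Fiber T} (hη : Corr φ η.2 η'.2)
    (hab : IsoNat.IsAutAbelian η) : IsoNat.IsAutAbelian η' := by
  intro T' x' b s t
  obtain ⟨y, rfl⟩ := x'
  obtain ⟨y', rfl⟩ := η'
  have hb : 𝒴.p.IsHomLift (𝒴.p.map b) b := inferInstance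
  have hy : 𝒴.p.obj y = 𝒴.p.obj y := rfl
  obtain ⟨x, hx, hc⟩ := exists_left φ hy
  obtain ⟨a, ha⟩ := arrow_left h𝒳.1 h𝒴.1 hη hc b hb
  have hab' : IsoNat.IsAutAbelian (⟨x, hx⟩ : 𝒳.p.Fiber (𝒴.p.obj y)) :=
    fun T'' z f s t => hab T'' z (f ≫ a) s t
  have h := comm_right h𝒳 h𝒴 hd𝒴 (η := ⟨x, hx⟩) (η' := ⟨y, hy⟩) hc hab' t.hom s.hom
  exact Iso.ext h

end Abelian

end K863.Abel
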