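import Groth.Prelude.Def_W4c2isonaturalstkIso

/-!
# Arrow calculus for categories fibred in groupoids, and correspondence of objects under an `IsoNat.FIso`

No chosen pullbacks: "`y` is the pullback of `x` along `f`" is recorded by an arrow `y ⟶ x` lying over `f`.
-/

set_option autoImplicit false

universe v₃ u₃ v₂ u₂ v u

open CategoryTheory

namespace K863.Arr

section Basic

variable {C : Type u} [Category.{v} C] {X : Type u₂} [Category.{v₂} X] {p : X ⥤ C}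

theorem cart (hp : FibCat.IsFibGrpd p) {y x : X} {U V : C} {f : U ⟶ V} {φ : y ⟶ x}
    (h : p.IsHomLift f φ) : p.IsStronglyCartesian f φ := by
  obtain ⟨⟩ := h
  exact hp.isStronglyCartesian φ

/-- Lifts with prescribed target exist. -/
theorem exists_lift (hp : FibCat.IsFibGrpd p) {x : X} {T T' : C} (hx : p.obj x = T) (f : T' ⟶ T) :
    ∃ (y : X) (φ : y ⟶ x), p.IsHomLift f φ := by
  subst hx
  exact hp.exists_lift f

/-- Factorisation through an arrow. -/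
theorem exists_fac (hp : FibCat.IsFibGrpd p) {z y x : X} {W U V : C} {f : U ⟶ V} {g : W ⟶ U}
    {k : W ⟶ V} {φ : y ⟶ x} {ψ : z ⟶ x} (hφ : p.IsHomLift f φ) (hψ : p.IsHomLift k ψ)
    (e : g ≫ f = k) : ∃ χ : z ⟶ y, p.IsHomLift g χ ∧ χ ≫ φ = ψ := by
  have := cart hp hφ
  have := hψ
  exact (Functor.IsStronglyCartesian.universal_property p f φ g k e.symm ψ).exists

/-- Arrows with the same base arrow and the same composite with an arrow are equal. -/
theorem fac_unique (hp : FibCat.IsFibGrpd p) {z y x : X} {W U : C} {g : W ⟶ U}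
    (φ : y ⟶ x) {χ χ' : z ⟶ y} (h : p.IsHomLift g χ) (h' : p.IsHomLift g χ')
    (e : χ ≫ φ = χ' ≫ φ) : χ = χ' := by
  obtain rfl : p.obj y = U := IsHomLift.codomain_eq p g χ
  have := hp.isStronglyCartesian φ
  exact Functor.IsStronglyCartesian.ext p (p.map φ) φ g e

theorem lift_id {x : X} {T : C} (hx : p.obj x = T) : p.IsHomLift (𝟙 T) (𝟙 x) := IsHomLift.id hx

theorem dom {y x : X} {U V : C} {f : U ⟶ V} {φ : y ⟶ x} (h : p.IsHomLift f φ) : p.obj y = U :=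
  IsHomLift.domain_eq p f φ

theorem cod {y x : X} {U V : C} {f : U ⟶ V} {φ : y ⟶ x} (h : p.IsHomLift f φ) : p.obj x = V :=
  IsHomLift.codomain_eq p f φ

theorem lift_comp {z y x : X} {W U V : C} {g : W ⟶ U} {f : U ⟶ V} {ψ : z ⟶ y} {φ : y ⟶ x}
    (h : p.IsHomLift g ψ) (h' : p.IsHomLift f φ) : p.IsHomLift (g ≫ f) (ψ ≫ φ) :=
  IsHomLift.comp p g f ψ φ

/-- Variant of `lift_comp` with a prescribed composite. -/
theorem lift_comp' {z y x : X} {W U V : C} {g : W ⟶ U} {f : U ⟶ V} {k : W ⟶ V} {ψ : z ⟶ y}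
    {φ : y ⟶ x} (h : p.IsHomLift g ψ) (h' : p.IsHomLift f φ) (e : g ≫ f = k) :
    p.IsHomLift k (ψ ≫ φ) := e ▸ lift_comp h h'

theorem lift_id_comp {z y x : X} {U V : C} {f : U ⟶ V} {ψ : z ⟶ y} {φ : y ⟶ x}
    (h : p.IsHomLift (𝟙 U) ψ) (h' : p.IsHomLift f φ) : p.IsHomLift f (ψ ≫ φ) :=
  lift_comp' h h' (Category.id_comp _)

theorem lift_comp_id {z y x : X} {U V : C} {f : U ⟶ V} {ψ : z ⟶ y} {φ : y ⟶ x}
    (h : p.IsHomLift f ψ) (h' : p.IsHomLift (𝟙 V) φ) : p.IsHomLift f (ψ ≫ φ) :=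
  lift_comp' h h' (Category.comp_id _)

/-- Two base arrows of one arrow agree. -/
theorem base_unique {y x : X} {U V : C} {f f' : U ⟶ V} {φ : y ⟶ x}
    (h : p.IsHomLift f φ) (h' : p.IsHomLift f' φ) : f = f' := by
  have e := IsHomLift.fac p f φ
  have e' := IsHomLift.fac p f' φ
  rw [e, e']

/-- An arrow over an isomorphism is an isomorphism. -/
theorem isIso_of_base (hp : FibCat.IsFibGrpd p) {y x : X} {U V : C} {f : U ⟶ V} [IsIso f]
    {φ : y ⟶ x} (h : p.IsHomLift f φ) : IsIso φ := by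
  have := cart hp h
  exact Functor.IsStronglyCartesian.isIso_of_base_isIso p f φ

/-- An arrow over an identity is an isomorphism. -/
theorem isIso_of_id (hp : FibCat.IsFibGrpd p) {y x : X} {U : C} {φ : y ⟶ x}
    (h : p.IsHomLift (𝟙 U) φ) : IsIso φ := isIso_of_base hp h

theorem lift_inv {y x : X} {U : C} {φ : y ⟶ x} [IsIso φ]
    (h : p.IsHomLift (𝟙 U) φ) : p.IsHomLift (𝟙 U) (inv φ) := by
  have := h
  infer_instance

/-- Two arrows over the same base arrow with the same target differ by an arrow over the identity. -/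
theorem exists_vert (hp : FibCat.IsFibGrpd p) {z y x : X} {U V : C} {f : U ⟶ V}
    {φ : y ⟶ x} {ψ : z ⟶ x} (hφ : p.IsHomLift f φ) (hψ : p.IsHomLift f ψ) :
    ∃ χ : z ⟶ y, p.IsHomLift (𝟙 U) χ ∧ χ ≫ φ = ψ :=
  exists_fac hp hφ hψ (Category.id_comp _)

/-- Restriction of an arrow over the identity: for `s : x ⟶ x'` over `𝟙` and `φ : y ⟶ x`, `φ' : y' ⟶ x'` over the same
`f` there is a unique `t : y ⟶ y'` over `𝟙` with `t ≫ φ' = φ ≫ s`. -/
theorem exists_restr (hp : FibCat.IsFibGrpd p) {y y' x x' : X} {U V : C} {f : U ⟶ V}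
    {φ : y ⟶ x} {φ' : y' ⟶ x'} {s : x ⟶ x'} (hφ : p.IsHomLift f φ) (hφ' : p.IsHomLift f φ')
    (hs : p.IsHomLift (𝟙 V) s) : ∃ t : y ⟶ y', p.IsHomLift (𝟙 U) t ∧ t ≫ φ' = φ ≫ s :=
  exists_vert hp hφ' (lift_comp_id hφ hs)

end Basic

section Based

variable {C : Type u} [Category.{v} C]

/-- Construct a based functor from a functor lifting the base arrows. -/
def mkBased {𝒜 : BasedCategory.{v₂, u₂} C} {ℬ : BasedCategory.{v₃, u₃} C}
    (F : 𝒜.obj ⥤ ℬ.obj) (h : ∀ {a b : 𝒜.obj} (g : a ⟶ b), ℬ.p.IsHomLift (𝒜.p.map g) (F.map g)) :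
    𝒜 ⥤ᵇ ℬ where
  toFunctor := F
  w := CategoryTheory.Functor.ext (fun a => (dom (h (𝟙 a)) : ℬ.p.obj (F.obj a) = 𝒜.p.obj a))
    (fun a b g => by
      have := h g
      exact IsHomLift.fac' ℬ.p (𝒜.p.map g) (F.map g))

@[simp] theorem mkBased_toFunctor {𝒜 : BasedCategory.{v₂, u₂} C} {ℬ : BasedCategory.{v₃, u₃} C}
    (F : 𝒜.obj ⥤ ℬ.obj) (h : ∀ {a b : 𝒜.obj} (g : a ⟶ b), ℬ.p.IsHomLift (𝒜.p.map g) (F.map g)) :
    (mkBased F h).toFunctor = F := rfl

/-- A based functor maps an arrow over `f` to an arrow over `f`. -/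
theorem map_lift {𝒜 : BasedCategory.{v₂, u₂} C} {ℬ : BasedCategory.{v₃, u₃} C} (F : 𝒜 ⥤ᵇ ℬ)
    {a b : 𝒜.obj} {U V : C} {f : U ⟶ V} {g : a ⟶ b} (h : 𝒜.p.IsHomLift f g) :
    ℬ.p.IsHomLift f (F.map g) :=
  BasedFunctor.preserves_isHomLift F f g

/-- A based functor reflects base arrows. -/
theorem lift_of_map {𝒜 : BasedCategory.{v₂, u₂} C} {ℬ : BasedCategory.{v₃, u₃} C} (F : 𝒜 ⥤ᵇ ℬ)
    {a b : 𝒜.obj} {U V : C} {f : U ⟶ V} {g : a ⟶ b} (h : ℬ.p.IsHomLift f (F.map g)) :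
    𝒜.p.IsHomLift f g :=
  BasedFunctor.isHomLift_map F f g

end Based

end K863.Arr
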