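import Groth.Agent.IsoNat.K863.Sq
import Groth.Agent.AlgSt.K734.Yon2

/-!
# Correspondence of scheme charts under an `IsoNat.FIso`
-/

set_option autoImplicit false
set_option backward.isDefEq.respectTransparency false
set_option backward.isDefEq.respectTransparency.types false

universe u

open CategoryTheory AlgebraicGeometry

namespace K863.ChartCorr

open K863.Arr K863.Corr K863.Sq AlgSt K734.Fib

variable {S : Scheme.{u}} {𝒳 𝒴 : AlgSt.Cat S} {U : Over S}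

/-- Corresponding charts. -/
def ChCorr (φ : IsoNat.FIso 𝒳 𝒴) (u : FibCat.overCat U ⥤ᵇ 𝒳) (u' : FibCat.overCat U ⥤ᵇ 𝒴) : Prop :=
  φ.toEquiv U (IsoNat.objCls u) = IsoNat.objCls u'

theorem lift_toOne (u : FibCat.overCat U ⥤ᵇ 𝒳) (o : (FibCat.overCat U).obj) :
    𝒳.p.IsHomLift o.hom (u.map (toOne o)) := by
  have : (FibCat.overCat U).p.IsHomLift o.hom (toOne o) :=
    IsHomLift.map (FibCat.overCat U).p (toOne o)
  exact BasedFunctor.preserves_isHomLift u _ _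

variable {φ : IsoNat.FIso 𝒳 𝒴} {u : FibCat.overCat U ⥤ᵇ 𝒳} {u' : FibCat.overCat U ⥤ᵇ 𝒴}

/-- Corresponding charts have corresponding values. -/
theorem ChCorr.obj (h𝒴 : FibCat.IsFibGrpd 𝒴.p) (h : ChCorr φ u u') (o : (FibCat.overCat U).obj) :
    Corr φ (u.w_obj o) (u'.w_obj o) := by
  obtain ⟨y, hy, hc⟩ := exists_right φ (u.w_obj o)
  have h1 : Corr φ (u.w_obj (one U)) (u'.w_obj (one U)) := h
  obtain ⟨b, hb⟩ := arrow_right h𝒴 h1 hc (u.map (toOne o)) (lift_toOne u o)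
  obtain ⟨c, hc', -⟩ := exists_vert h𝒴 hb (lift_toOne u' o)
  have e := ((cls_eq_iff h𝒴 (⟨u'.obj o, u'.w_obj o⟩ : 𝒴.p.Fiber _)
    (⟨y, hy⟩ : 𝒴.p.Fiber _)).2 ⟨c, hc'⟩).symm
  exact hc.trans e

theorem chCorr_of_obj (h : Corr φ (u.w_obj (one U)) (u'.w_obj (one U))) : ChCorr φ u u' := h

variable (φ) in
theorem exists_ch_right (h𝒴 : FibCat.IsFibGrpd 𝒴.p) (u : FibCat.overCat U ⥤ᵇ 𝒳) :
    ∃ u' : FibCat.overCat U ⥤ᵇ 𝒴, ChCorr φ u u' := by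
  obtain ⟨y, hy, hc⟩ := exists_right φ (u.w_obj (one U))
  obtain ⟨u', e, he⟩ := exists_yo h𝒴 y hy
  refine ⟨u', ?_⟩
  have hl : 𝒴.p.IsHomLift (𝟙 U) e.hom := by
    have aux : ∀ {V : Over S}, 𝒴.p.obj (u'.obj (one U)) = V → 𝒴.p.IsHomLift (𝟙 V) e.hom := by
      rintro V rfl
      exact he
    exact aux (u'.w_obj (one U))
  have e := ((cls_eq_iff h𝒴 (⟨u'.obj (one U), u'.w_obj (one U)⟩ : 𝒴.p.Fiber U)
    (⟨y, hy⟩ : 𝒴.p.Fiber U)).2 ⟨e.hom, hl⟩).symm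
  exact hc.trans e

variable (φ) in
theorem exists_ch_left (h𝒳 : FibCat.IsFibGrpd 𝒳.p) (h𝒴 : FibCat.IsFibGrpd 𝒴.p)
    (u' : FibCat.overCat U ⥤ᵇ 𝒴) : ∃ u : FibCat.overCat U ⥤ᵇ 𝒳, ChCorr φ u u' := by
  obtain ⟨u, hu⟩ := exists_ch_right (Corr.symm φ h𝒳 h𝒴) h𝒳 u'
  refine ⟨u, ?_⟩
  have h : (φ.toEquiv U).symm (IsoNat.objCls u') = IsoNat.objCls u := hu
  rw [Equiv.symm_apply_eq] at h
  exact h.symm

theorem ChCorr.pcorr (h𝒴 : FibCat.IsFibGrpd 𝒴.p) (h : ChCorr φ u u') (p : FPt (FibCat.overCat U)) :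
    PCorr φ (p.map u) (p.map u') := by
  obtain ⟨K, str, o, lies⟩ := p
  refine ⟨K, inferInstance, str, u.obj o, u'.obj o, (u.w_obj o).trans lies,
    (u'.w_obj o).trans lies, ?_, rfl, rfl⟩
  have h1 := h.obj h𝒴 o
  have lies' : o.left = Over.mk str := lies
  have aux : ∀ (T : Over S) (e : o.left = T), Corr φ ((u.w_obj o).trans e) ((u'.w_obj o).trans e) := by
    rintro T rfl
    exact h1
  exact aux _ lies'

theorem ptsFun_map_chart (h𝒴 : FibCat.IsFibGrpd 𝒴.p) (h : ChCorr φ u u')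
    (a : Points (FibCat.overCat U)) :
    ptsFun φ h𝒴 (Points.map u a) = Points.map u' a := by
  obtain ⟨p, rfl⟩ := Points.mk_surjective a
  exact ptsFun_mk h𝒴 (h.pcorr h𝒴 p)

end K863.ChartCorr
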