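import Groth.Agent.IsoNat.K863.Arr

/-!
# Correspondence of objects under an `IsoNat.FIso`
-/

set_option autoImplicit false

universe u

open CategoryTheory AlgebraicGeometry

namespace K863.Corr

open K863.Arr

variable {S : Scheme.{u}} {𝒳 𝒴 : AlgSt.Cat S}

theorem cls_eq_iff (hp : FibCat.IsFibGrpd 𝒳.p) {T : Over S} (x y : 𝒳.p.Fiber T) :
    IsoNat.cls x = IsoNat.cls y ↔ ∃ φ : x.1 ⟶ y.1, 𝒳.p.IsHomLift (𝟙 T) φ := by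
  constructor
  · intro h
    obtain ⟨e⟩ := Quotient.exact h
    exact ⟨e.hom.1, e.hom.2⟩
  · rintro ⟨φ, hφ⟩
    have := isIso_of_id hp hφ
    exact Quotient.sound ⟨⟨⟨φ, hφ⟩, ⟨inv φ, lift_inv hφ⟩, Subtype.ext (IsIso.hom_inv_id φ),
      Subtype.ext (IsIso.inv_hom_id φ)⟩⟩

/-- `x` and `y` correspond under `φ`. -/
def Corr (φ : IsoNat.FIso 𝒳 𝒴) {T : Over S} {x : 𝒳.obj} {y : 𝒴.obj} (hx : 𝒳.p.obj x = T)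
    (hy : 𝒴.p.obj y = T) : Prop :=
  φ.toEquiv T (IsoNat.cls ⟨x, hx⟩) = IsoNat.cls ⟨y, hy⟩

variable (φ : IsoNat.FIso 𝒳 𝒴)

theorem exists_right {T : Over S} {x : 𝒳.obj} (hx : 𝒳.p.obj x = T) :
    ∃ (y : 𝒴.obj) (hy : 𝒴.p.obj y = T), Corr φ hx hy := by
  obtain ⟨⟨y, hy⟩, h⟩ := Quotient.exists_rep (φ.toEquiv T (IsoNat.cls ⟨x, hx⟩))
  exact ⟨y, hy, h.symm⟩

theorem exists_left {T : Over S} {y : 𝒴.obj} (hy : 𝒴.p.obj y = T) :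
    ∃ (x : 𝒳.obj) (hx : 𝒳.p.obj x = T), Corr φ hx hy := by
  obtain ⟨⟨x, hx⟩, h⟩ := Quotient.exists_rep ((φ.toEquiv T).symm (IsoNat.cls ⟨y, hy⟩))
  refine ⟨x, hx, ?_⟩
  change φ.toEquiv T (Quotient.mk _ _) = _
  rw [h, Equiv.apply_symm_apply]

variable {φ}

theorem vert_right (h𝒳 : FibCat.IsFibGrpd 𝒳.p) (h𝒴 : FibCat.IsFibGrpd 𝒴.p) {T : Over S}
    {x x' : 𝒳.obj} {y y' : 𝒴.obj} {hx : 𝒳.p.obj x = T} {hy : 𝒴.p.obj y = T} {hx' : 𝒳.p.obj x' = T}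
    {hy' : 𝒴.p.obj y' = T} (h : Corr φ hx hy) (h' : Corr φ hx' hy')
    (a : x' ⟶ x) (ha : 𝒳.p.IsHomLift (𝟙 T) a) : ∃ b : y' ⟶ y, 𝒴.p.IsHomLift (𝟙 T) b := by
  have e : IsoNat.cls (𝒳 := 𝒳) (⟨x', hx'⟩ : 𝒳.p.Fiber T) = IsoNat.cls ⟨x, hx⟩ :=
    (cls_eq_iff h𝒳 _ _).2 ⟨a, ha⟩
  unfold Corr at h h'
  exact (cls_eq_iff h𝒴 (⟨y', hy'⟩ : 𝒴.p.Fiber T) ⟨y, hy⟩).1 (by rw [← h, ← h', e])

theorem vert_left (h𝒳 : FibCat.IsFibGrpd 𝒳.p) (h𝒴 : FibCat.IsFibGrpd 𝒴.p) {T : Over S}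
    {x x' : 𝒳.obj} {y y' : 𝒴.obj} {hx : 𝒳.p.obj x = T} {hy : 𝒴.p.obj y = T} {hx' : 𝒳.p.obj x' = T}
    {hy' : 𝒴.p.obj y' = T} (h : Corr φ hx hy) (h' : Corr φ hx' hy')
    (b : y' ⟶ y) (hb : 𝒴.p.IsHomLift (𝟙 T) b) : ∃ a : x' ⟶ x, 𝒳.p.IsHomLift (𝟙 T) a := by
  have e : IsoNat.cls (𝒳 := 𝒴) (⟨y', hy'⟩ : 𝒴.p.Fiber T) = IsoNat.cls ⟨y, hy⟩ :=
    (cls_eq_iff h𝒴 _ _).2 ⟨b, hb⟩
  unfold Corr at h h'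
  refine (cls_eq_iff h𝒳 (⟨x', hx'⟩ : 𝒳.p.Fiber T) ⟨x, hx⟩).1 ((φ.toEquiv T).injective ?_)
  rw [h, h', e]

/-- Corresponding objects: an arrow `x' ⟶ x` over `g` gives an arrow `y' ⟶ y` over `g`. -/
theorem arrow_right (h𝒴 : FibCat.IsFibGrpd 𝒴.p) {T' T : Over S} {g : T' ⟶ T}
    {x x' : 𝒳.obj} {y y' : 𝒴.obj} {hx : 𝒳.p.obj x = T} {hy : 𝒴.p.obj y = T} {hx' : 𝒳.p.obj x' = T'}
    {hy' : 𝒴.p.obj y' = T'} (h : Corr φ hx hy) (h' : Corr φ hx' hy')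
    (a : x' ⟶ x) (ha : 𝒳.p.IsHomLift g a) : ∃ b : y' ⟶ y, 𝒴.p.IsHomLift g b := by
  obtain ⟨y₁', y₁, b, hb, e', e⟩ := φ.natural g ⟨x', hx'⟩ ⟨x, hx⟩ a ha
  unfold Corr at h h'
  obtain ⟨s', hs'⟩ := (cls_eq_iff h𝒴 (⟨y', hy'⟩ : 𝒴.p.Fiber T') y₁').1 (by rw [← e', ← h'])
  obtain ⟨s, hs⟩ := (cls_eq_iff h𝒴 y₁ (⟨y, hy⟩ : 𝒴.p.Fiber T)).1 (by rw [← e, ← h])
  exact ⟨s' ≫ b ≫ s, lift_id_comp hs' (lift_comp_id hb hs)⟩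

/-- Corresponding objects: an arrow `y' ⟶ y` over `g` gives an arrow `x' ⟶ x` over `g`. -/
theorem arrow_left (h𝒳 : FibCat.IsFibGrpd 𝒳.p) (h𝒴 : FibCat.IsFibGrpd 𝒴.p) {T' T : Over S}
    {g : T' ⟶ T} {x x' : 𝒳.obj} {y y' : 𝒴.obj} {hx : 𝒳.p.obj x = T} {hy : 𝒴.p.obj y = T}
    {hx' : 𝒳.p.obj x' = T'} {hy' : 𝒴.p.obj y' = T'} (h : Corr φ hx hy) (h' : Corr φ hx' hy')
    (b : y' ⟶ y) (hb : 𝒴.p.IsHomLift g b) : ∃ a : x' ⟶ x, 𝒳.p.IsHomLift g a := by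
  obtain ⟨x'', a, ha⟩ := exists_lift h𝒳 hx g
  obtain ⟨y'', hy'', h''⟩ := exists_right φ (dom ha)
  obtain ⟨b', hb'⟩ := arrow_right h𝒴 h h'' a ha
  obtain ⟨c, hc, -⟩ := exists_vert h𝒴 hb' hb
  obtain ⟨s, hs⟩ := vert_left h𝒳 h𝒴 h'' h' c hc
  exact ⟨s ≫ a, lift_id_comp hs ha⟩

/-- The inverse isomorphism of presheaves. -/
def symm (φ : IsoNat.FIso 𝒳 𝒴) (h𝒳 : FibCat.IsFibGrpd 𝒳.p) (h𝒴 : FibCat.IsFibGrpd 𝒴.p) :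
    IsoNat.FIso 𝒴 𝒳 where
  toEquiv T := (φ.toEquiv T).symm
  natural := by
    intro T' T g y' y b hb
    obtain ⟨x, hx, h⟩ := exists_left φ y.2
    obtain ⟨x', hx', h'⟩ := exists_left φ y'.2
    obtain ⟨a, ha⟩ := arrow_left h𝒳 h𝒴 h h' b hb
    refine ⟨⟨x', hx'⟩, ⟨x, hx⟩, a, ha, ?_, ?_⟩
    · rw [Equiv.symm_apply_eq]; exact h'.symm
    · rw [Equiv.symm_apply_eq]; exact h.symm

theorem corr_symm {h𝒳 : FibCat.IsFibGrpd 𝒳.p} {h𝒴 : FibCat.IsFibGrpd 𝒴.p} {T : Over S}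
    {x : 𝒳.obj} {y : 𝒴.obj} {hx : 𝒳.p.obj x = T} {hy : 𝒴.p.obj y = T} (h : Corr φ hx hy) :
    Corr (symm φ h𝒳 h𝒴) hy hx := by
  change (φ.toEquiv T).symm _ = _
  rw [Equiv.symm_apply_eq]; exact h.symm

end K863.Corr
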