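import Groth.Agent.IsoNat.K862.Isom
import Groth.Agent.IsoNat.K863.Arr
import Groth.Agent.Ega4dB.SchDense

/-!
# Arrows of a category with separated diagonal agreeing on a scheme-theoretically dense part are equal
-/

set_option autoImplicit false
set_option backward.isDefEq.respectTransparency false
set_option backward.isDefEq.respectTransparency.types false

universe u

open CategoryTheory CategoryTheory.Limits AlgebraicGeometry Opposite

namespace K863.Dens

variable {S : Scheme.{u}}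

/-- Two sections over `T'` of a separated `π : F ⟶ G` with the same image which agree after a
scheme-theoretically dominant `j : W ⟶ T'` are equal. -/
theorem sec_ext {F G : AlgSp.Sp S} (π : F ⟶ G) (hπ : AlgSp.IsSeparatedMor π) {W T' : Over S}
    (j : W ⟶ T') [IsSchemeTheoreticallyDominant j.left] (a b : F.obj.obj (op T'))
    (hab : π.hom.app (op T') a = π.hom.app (op T') b)
    (e : F.obj.map j.op a = F.obj.map j.op b) : a = b := by
  let Y : ((AlgSp.yon S).obj T' ⟶ F) ≃ F.obj.obj (op T') :=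
    (AlgSp.J S).uliftYonedaEquiv.{u + 1}
  let a' : (AlgSp.yon S).obj T' ⟶ F := Y.symm a
  let b' : (AlgSp.yon S).obj T' ⟶ F := Y.symm b
  have hw : a' ≫ π = b' ≫ π := by
    apply (AlgSp.J S).uliftYonedaEquiv.{u + 1}.injective
    rw [GrothendieckTopology.uliftYonedaEquiv_comp, GrothendieckTopology.uliftYonedaEquiv_comp]
    change π.hom.app (op T') (Y (Y.symm a)) = π.hom.app (op T') (Y (Y.symm b))
    rw [Equiv.apply_symm_apply, Equiv.apply_symm_apply, hab]
  have hj : (AlgSp.yon S).map j ≫ a' = (AlgSp.yon S).map j ≫ b' := by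
    apply (AlgSp.J S).uliftYonedaEquiv.{u + 1}.injective
    rw [← GrothendieckTopology.uliftYonedaEquiv_naturality,
      ← GrothendieckTopology.uliftYonedaEquiv_naturality]
    change F.obj.map j.op (Y (Y.symm a)) = F.obj.map j.op (Y (Y.symm b))
    rw [Equiv.apply_symm_apply, Equiv.apply_symm_apply, e]
  obtain ⟨hrep, hcl⟩ := (AlgSp.repWith_iff @IsClosedImmersion (pullback.diagonal π)).1 hπ
  let g : (AlgSp.yon S).obj T' ⟶ pullback π π := pullback.lift a' b' hw
  obtain ⟨Z, snd, fst, hpb⟩ := hrep g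
  have hcl' : IsClosedImmersion snd.left := hcl g fst snd hpb
  have hsq : ((AlgSp.yon S).map j ≫ a') ≫ pullback.diagonal π = (AlgSp.yon S).map j ≫ g := by
    apply pullback.hom_ext
    · simp [g]
    · simp only [Category.assoc, pullback.diagonal_snd, Category.comp_id, g, pullback.lift_snd]
      exact hj
  obtain ⟨k, hk⟩ := (AlgSp.yon S).map_surjective (hpb.lift _ _ hsq)
  have hk' : k ≫ snd = j := by
    apply (AlgSp.yon S).map_injective
    rw [Functor.map_comp, hk, hpb.lift_snd]
  have hker : Scheme.Hom.ker snd.left = ⊥ := by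
    have h1 := Scheme.Hom.le_ker_comp k.left snd.left
    rw [← Over.comp_left, hk', j.left.ker_eq_bot] at h1
    exact le_bot_iff.mp h1
  have h2 : IsIso snd.left := IsClosedImmersion.isIso_iff_ker_eq_bot.mpr hker
  have h3 : IsIso ((Over.forget S).map snd) := h2
  have h4 : IsIso snd := isIso_of_reflects_iso snd (Over.forget S)
  have h5 : a' = b' := by
    rw [← cancel_epi ((AlgSp.yon S).map snd)]
    have e1 : (AlgSp.yon S).map snd ≫ a' = fst := by
      have := congrArg (fun q => q ≫ pullback.fst π π) hpb.w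
      simpa [g] using this.symm
    have e2 : (AlgSp.yon S).map snd ≫ b' = fst := by
      have := congrArg (fun q => q ≫ pullback.snd π π) hpb.w
      simpa [g] using this.symm
    rw [e1, e2]
  have := congrArg Y h5
  simpa [a', b'] using this

open K863.Arr

variable {𝒳 : AlgSt.Cat S}

/-- Two arrows over the same base arrow which agree after an arrow over a scheme-theoretically dominant
morphism are equal, when the diagonal is separated. -/
theorem hom_ext (hp : FibCat.IsFibGrpd 𝒳.p)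
    (hd : AlgSt.RepByAlgSpWith (AlgSp.IsSeparatedMor ⊓ AlgSp.IsQuasiCompactMor)
      (FibCat.diag (FibCat.toSelf 𝒳))) {W T T₁ : Over S} (j : W ⟶ T)
    (hj : IsSchemeTheoreticallyDominant j.left) {w s t : 𝒳.obj} {k : w ⟶ s} (hk : 𝒳.p.IsHomLift j k)
    {g : T ⟶ T₁} {α β : s ⟶ t} (hα : 𝒳.p.IsHomLift g α) (hβ : 𝒳.p.IsHomLift g β)
    (e : k ≫ α = k ≫ β) : α = β := by
  -- reduce to the identity
  obtain ⟨t', c, hc⟩ := exists_lift hp (cod hα) g
  obtain ⟨α', hα', rfl⟩ := exists_vert hp hc hα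
  obtain ⟨β', hβ', rfl⟩ := exists_vert hp hc hβ
  have e' : k ≫ α' = k ≫ β' := fac_unique hp c (lift_comp_id hk hα') (lift_comp_id hk hβ')
    (by rw [Category.assoc, Category.assoc, e])
  suffices α' = β' by rw [this]
  let s₀ : 𝒳.p.Fiber T := ⟨s, dom hα⟩
  let t₀ : 𝒳.p.Fiber T := ⟨t', dom hc⟩
  let w₀ : 𝒳.p.Fiber W := ⟨w, dom hk⟩
  obtain ⟨F, R, hR, -⟩ := K862.exists_isomRep s₀ t₀ hd
  have ls : 𝒳.p.IsHomLift (𝟙 T) (𝟙 s) := lift_id (dom hα)
  let a : F.obj.obj.obj (op T) := R.sec (𝟙 T) s₀ (𝟙 s) α' ls hα'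
  let b : F.obj.obj.obj (op T) := R.sec (𝟙 T) s₀ (𝟙 s) β' ls hβ'
  have hab : a = b := by
    refine sec_ext R.π hR j a b ?_ ?_
    · rw [R.sec_π, R.sec_π]
    · rw [R.sec_map j (𝟙 T) w₀ s₀ k (𝟙 s) α' hk ls hα' (lift_comp hk ls) (lift_comp hk hα'),
        R.sec_map j (𝟙 T) w₀ s₀ k (𝟙 s) β' hk ls hβ' (lift_comp hk ls) (lift_comp hk hβ')]
      rw [R.sec_eq_iff]
      exact ⟨𝟙 w₀, by simp, by rw [K862.Fib.id_val, Category.id_comp, e']⟩
  obtain ⟨θ, h1, h2⟩ := (R.sec_eq_iff _ _ _ _ _ _ _ _ _ _ _ _).1 hab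
  have : θ.1 = 𝟙 s := by rwa [Category.comp_id] at h1
  rw [this, Category.id_comp] at h2
  exact h2.symm

end K863.Dens
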