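import Groth.Agent.IsoNat.K863.Pair
import Groth.Agent.IsoNat.K863.Dens
import Groth.Agent.IsoNat.K863.Corr
import Groth.Agent.IsoNat.K864.Cross

/-!
# Pullbacks of an object `η` over `T` to `T × Z`, and objects over `T × D2` locally equal to `η`
-/

set_option autoImplicit false
set_option backward.isDefEq.respectTransparency false
set_option backward.isDefEq.respectTransparency.types false

universe u

open CategoryTheory CategoryTheory.Limits AlgebraicGeometry Opposite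

namespace K863.Frame

open K863.Arr K864.Prd K864.Cross

variable {S : Scheme.{u}} {𝒳 : AlgSt.Cat S}

section Basic

variable (hp : FibCat.IsFibGrpd 𝒳.p) {T : Over S} (η : 𝒳.p.Fiber T)

/-- The pullback of `η` to `T × Z`. -/
noncomputable def E (Z : Scheme.{u}) : 𝒳.p.Fiber (prd T Z) :=
  ⟨(exists_lift hp η.2 (p₁ T Z)).choose, dom (exists_lift hp η.2 (p₁ T Z)).choose_spec.choose_spec⟩

/-- The arrow to `η`. -/
noncomputable def ε (Z : Scheme.{u}) : (E hp η Z).1 ⟶ η.1 :=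
  (exists_lift hp η.2 (p₁ T Z)).choose_spec.choose

theorem ε_lift (Z : Scheme.{u}) : 𝒳.p.IsHomLift (p₁ T Z) (ε hp η Z) :=
  (exists_lift hp η.2 (p₁ T Z)).choose_spec.choose_spec

theorem m_aux {Z Z' : Scheme.{u}} (j : Z ⟶ Z') : ∃ χ : (E hp η Z).1 ⟶ (E hp η Z').1,
    𝒳.p.IsHomLift (mapR T j) χ ∧ χ ≫ ε hp η Z' = ε hp η Z :=
  exists_fac hp (ε_lift hp η Z') (ε_lift hp η Z) (mapR_p₁ T j)

/-- Functoriality of the pullback. -/
noncomputable def m {Z Z' : Scheme.{u}} (j : Z ⟶ Z') : (E hp η Z).1 ⟶ (E hp η Z').1 :=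
  (m_aux hp η j).choose

theorem m_lift {Z Z' : Scheme.{u}} (j : Z ⟶ Z') : 𝒳.p.IsHomLift (mapR T j) (m hp η j) :=
  (m_aux hp η j).choose_spec.1

theorem m_ε {Z Z' : Scheme.{u}} (j : Z ⟶ Z') : m hp η j ≫ ε hp η Z' = ε hp η Z :=
  (m_aux hp η j).choose_spec.2

theorem m_comp {Z Z' Z'' : Scheme.{u}} (j : Z ⟶ Z') (k : Z' ⟶ Z'') :
    m hp η (j ≫ k) = m hp η j ≫ m hp η k :=
  fac_unique hp (ε hp η Z'') (m_lift hp η _)
    (lift_comp' (m_lift hp η j) (m_lift hp η k) (mapR_comp T j k).symm)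
    (by rw [m_ε, Category.assoc, m_ε, m_ε])

theorem m_id (Z : Scheme.{u}) : m hp η (𝟙 Z) = 𝟙 _ :=
  fac_unique hp (ε hp η Z) (m_lift hp η _) (by rw [mapR_id]; exact lift_id (E hp η Z).2)
    (by rw [m_ε, Category.id_comp])

theorem r_aux {Z Z' : Scheme.{u}} (j : Z' ⟶ Z) (h : E hp η Z ⟶ E hp η Z) :
    ∃ χ : (E hp η Z').1 ⟶ (E hp η Z').1,
      𝒳.p.IsHomLift (𝟙 (prd T Z')) χ ∧ χ ≫ m hp η j = m hp η j ≫ h.1 :=
  exists_restr hp (m_lift hp η j) (m_lift hp η j) h.2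

/-- Restriction of automorphisms. -/
noncomputable def r {Z Z' : Scheme.{u}} (j : Z' ⟶ Z) (h : E hp η Z ⟶ E hp η Z) :
    E hp η Z' ⟶ E hp η Z' :=
  ⟨(r_aux hp η j h).choose, (r_aux hp η j h).choose_spec.1⟩

theorem r_fac {Z Z' : Scheme.{u}} (j : Z' ⟶ Z) (h : E hp η Z ⟶ E hp η Z) :
    (r hp η j h).1 ≫ m hp η j = m hp η j ≫ h.1 :=
  (r_aux hp η j h).choose_spec.2

theorem comp_val {T' : Over S} {x y z : 𝒳.p.Fiber T'} (a : x ⟶ y) (b : y ⟶ z) :
    (a ≫ b).1 = a.1 ≫ b.1 := rfl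

theorem id_val {T' : Over S} (x : 𝒳.p.Fiber T') : (𝟙 x : x ⟶ x).1 = 𝟙 x.1 := rfl

theorem r_uniq {Z Z' : Scheme.{u}} (j : Z' ⟶ Z) {h : E hp η Z ⟶ E hp η Z}
    {k : E hp η Z' ⟶ E hp η Z'} (e : k.1 ≫ m hp η j = m hp η j ≫ h.1) : k = r hp η j h :=
  Subtype.ext (fac_unique hp (m hp η j) k.2 (r hp η j h).2 (by rw [e, r_fac]))

theorem r_mul {Z Z' : Scheme.{u}} (j : Z' ⟶ Z) (h k : E hp η Z ⟶ E hp η Z) :
    r hp η j (h ≫ k) = r hp η j h ≫ r hp η j k :=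
  (r_uniq hp η j (by
    rw [comp_val, comp_val, Category.assoc, r_fac, ← Category.assoc, r_fac, Category.assoc])).symm

theorem r_one {Z Z' : Scheme.{u}} (j : Z' ⟶ Z) : r hp η j (𝟙 _) = 𝟙 _ :=
  (r_uniq hp η j (by rw [id_val, id_val, Category.id_comp, Category.comp_id])).symm

theorem r_comp {Z Z' Z'' : Scheme.{u}} (j : Z' ⟶ Z) (k : Z'' ⟶ Z') (h : E hp η Z ⟶ E hp η Z) :
    r hp η k (r hp η j h) = r hp η (k ≫ j) h :=
  r_uniq hp η _ (by
    rw [m_comp, ← Category.assoc, r_fac, Category.assoc, r_fac, Category.assoc])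

theorem r_id {Z : Scheme.{u}} (h : E hp η Z ⟶ E hp η Z) : r hp η (𝟙 Z) h = h :=
  (r_uniq hp η _ (by rw [m_id, Category.comp_id, Category.id_comp])).symm

theorem c_aux (Z : Scheme.{u}) (a : η ⟶ η) :
    ∃ χ : (E hp η Z).1 ⟶ (E hp η Z).1,
      𝒳.p.IsHomLift (𝟙 (prd T Z)) χ ∧ χ ≫ ε hp η Z = ε hp η Z ≫ a.1 :=
  exists_restr hp (ε_lift hp η Z) (ε_lift hp η Z) a.2

/-- The constant automorphism. -/
noncomputable def c (Z : Scheme.{u}) (a : η ⟶ η) : E hp η Z ⟶ E hp η Z :=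
  ⟨(c_aux hp η Z a).choose, (c_aux hp η Z a).choose_spec.1⟩

theorem c_fac (Z : Scheme.{u}) (a : η ⟶ η) : (c hp η Z a).1 ≫ ε hp η Z = ε hp η Z ≫ a.1 :=
  (c_aux hp η Z a).choose_spec.2

theorem c_uniq {Z : Scheme.{u}} {a : η ⟶ η} {k : E hp η Z ⟶ E hp η Z}
    (e : k.1 ≫ ε hp η Z = ε hp η Z ≫ a.1) : k = c hp η Z a :=
  Subtype.ext (fac_unique hp (ε hp η Z) k.2 (c hp η Z a).2 (by rw [e, c_fac]))

theorem c_mul (Z : Scheme.{u}) (a b : η ⟶ η) : c hp η Z (a ≫ b) = c hp η Z a ≫ c hp η Z b :=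
  (c_uniq hp η (by
    rw [comp_val, comp_val, Category.assoc, c_fac, ← Category.assoc, c_fac, Category.assoc])).symm

theorem c_one (Z : Scheme.{u}) : c hp η Z (𝟙 _) = 𝟙 _ :=
  (c_uniq hp η (by rw [id_val, id_val, Category.id_comp, Category.comp_id])).symm

theorem r_c {Z Z' : Scheme.{u}} (j : Z' ⟶ Z) (a : η ⟶ η) : r hp η j (c hp η Z a) = c hp η Z' a :=
  (r_uniq hp η j (fac_unique hp (ε hp η Z) (lift_id_comp (c hp η Z' a).2 (m_lift hp η j))
    (lift_comp_id (m_lift hp η j) (c hp η Z a).2) (by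
      rw [Category.assoc, m_ε, c_fac, Category.assoc, c_fac, ← Category.assoc, m_ε]))).symm

/-- Constants commute with the functoriality arrows. -/
theorem c_m {Z Z' : Scheme.{u}} (j : Z' ⟶ Z) (a : η ⟶ η) :
    (c hp η Z' a).1 ≫ m hp η j = m hp η j ≫ (c hp η Z a).1 := by
  rw [← r_c hp η j, r_fac]

include hp in
theorem isIso_fib {T' : Over S} {x y : 𝒳.p.Fiber T'} (a : x ⟶ y) : IsIso a := by
  have := isIso_of_id hp a.2
  refine ⟨⟨⟨inv a.1, lift_inv a.2⟩, Subtype.ext ?_, Subtype.ext ?_⟩⟩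
  · exact IsIso.hom_inv_id a.1
  · exact IsIso.inv_hom_id a.1

include hp in
/-- Two-sided inverses in fibres. -/
theorem exists_inv {T' : Over S} {x y : 𝒳.p.Fiber T'} (a : x ⟶ y) :
    ∃ b : y ⟶ x, a ≫ b = 𝟙 _ ∧ b ≫ a = 𝟙 _ := by
  have := isIso_fib hp a
  exact ⟨inv a, IsIso.hom_inv_id a, IsIso.inv_hom_id a⟩

theorem isIso_p₁_pt : IsIso (p₁ T pt.{u}) := by
  have h : IsIso (p₁ T pt.{u}).left := by
    have h1 : IsIso (terminal.from pt.{u}) := isIso_of_isTerminal isTerminalPt terminalIsTerminal _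
    exact inferInstanceAs (IsIso (pullback.fst (terminal.from T.left) (terminal.from pt.{u})))
  have h' : IsIso ((Over.forget S).map (p₁ T pt.{u})) := h
  exact isIso_of_reflects_iso _ (Over.forget S)

theorem isIso_ε_pt : IsIso (ε hp η pt.{u}) := by
  have := isIso_p₁_pt (T := T)
  exact isIso_of_base hp (ε_lift hp η pt)

theorem c_pt_surj (h : E hp η pt.{u} ⟶ E hp η pt) : ∃ a : η ⟶ η, c hp η pt a = h := by
  have := isIso_ε_pt hp η
  have i1 := isIso_p₁_pt (T := T)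
  have l1 := ε_lift hp η pt.{u}
  have l2 : 𝒳.p.IsHomLift (inv (p₁ T pt.{u})) (inv (ε hp η pt.{u})) := inferInstance
  refine ⟨⟨inv (ε hp η pt.{u}) ≫ h.1 ≫ ε hp η pt, lift_comp' l2 (lift_id_comp h.2 l1)
    (IsIso.inv_hom_id _)⟩, (c_uniq hp η ?_).symm⟩
  change _ = ε hp η pt.{u} ≫ inv (ε hp η pt.{u}) ≫ h.1 ≫ ε hp η pt
  rw [IsIso.hom_inv_id_assoc]

theorem c_pt_inj {a b : η ⟶ η} (h : c hp η pt.{u} a = c hp η pt b) : a = b := by
  have := isIso_ε_pt hp η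
  apply Subtype.ext
  rw [← cancel_epi (ε hp η pt.{u}), ← c_fac, ← c_fac, h]

end Basic

section Density

variable (hp : FibCat.IsFibGrpd 𝒳.p)
  (hd : AlgSt.RepByAlgSpWith (AlgSp.IsSeparatedMor ⊓ AlgSp.IsQuasiCompactMor)
      (FibCat.diag (FibCat.toSelf 𝒳))) {T : Over S} (η : 𝒳.p.Fiber T)

include hd in
theorem r_jGm_inj {h k : E hp η A1.{u} ⟶ E hp η A1} (e : r hp η jGm h = r hp η jGm k) : h = k := by
  refine Subtype.ext (Dens.hom_ext hp hd (mapR T jGm.{u}) (std_jGm T) (m_lift hp η jGm) h.2 k.2 ?_)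
  rw [← r_fac, ← r_fac, e]

include hd in
/-- Equality on the punctured first branch implies equality at the origin. -/
theorem r_o_of_v₁ {h k : E hp η Cr.{u} ⟶ E hp η Cr} (e : r hp η v₁ h = r hp η v₁ k) :
    r hp η o h = r hp η o k := by
  have e1 : r hp η b₁ h = r hp η b₁ k := by
    apply r_jGm_inj hp hd η
    rw [r_comp, r_comp]; exact e
  rw [← zero_b₁, ← r_comp, ← r_comp, e1]

include hd in
theorem r_o_of_v₂ {h k : E hp η Cr.{u} ⟶ E hp η Cr} (e : r hp η v₂ h = r hp η v₂ k) :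
    r hp η o h = r hp η o k := by
  have e1 : r hp η b₂ h = r hp η b₂ k := by
    apply r_jGm_inj hp hd η
    rw [r_comp, r_comp]; exact e
  rw [← zero_b₂, ← r_comp, ← r_comp, e1]

end Density

section Glue

variable (hst : Stk.IsStack (AlgSp.J S) 𝒳) {T : Over S} (η : 𝒳.p.Fiber T)

/-- Opens `T × Z₁, T × Z₂` of `T × Z`. -/
theorem openPair {Z Z₁ Z₂ Z₁₂ : Scheme.{u}} {j₁ : Z₁ ⟶ Z} {j₂ : Z₂ ⟶ Z} {q₁ : Z₁₂ ⟶ Z₁}
    {q₂ : Z₁₂ ⟶ Z₂} [IsOpenImmersion j₁] [IsOpenImmersion j₂] (pb : IsPullback q₁ q₂ j₁ j₂)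
    (h : ∀ z : Z, (∃ a : Z₁, j₁ a = z) ∨ ∃ b : Z₂, j₂ b = z) :
    Pair.IsOpenPair (mapR T j₁) (mapR T j₂) (mapR T q₁) (mapR T q₂) where
  open₁ := inferInstance
  open₂ := inferInstance
  cover x := exists_or T j₁ j₂ h x
  pb := isPullback_prd T pb

include hst in
/-- Arrows out of an object over an empty scheme are determined by their base arrow. -/
theorem hom_empty {W W' : Over S} [IsEmpty W.left] {x y : 𝒳.obj} {g : W ⟶ W'} {a b : x ⟶ y}
    (ha : 𝒳.p.IsHomLift g a) (hb : 𝒳.p.IsHomLift g b) : a = b := by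
  have hR : Sieve.ofArrows (fun i : PEmpty.{1} => (i.elim : Over S)) (fun i => (i.elim : _ ⟶ W)) ∈
      AlgSp.J S W := Pair.ofArrows_mem _ (fun i => i.elim) (fun x => (IsEmpty.false x).elim)
  exact Glue.hom_unique_fam hst.1 _ (Pair.prestackFor hst _ hR) (dom ha) (fun i => i.elim)
    (fun i => i.elim) (fun i => i.elim) ha hb (fun i => i.elim)

include hst in
/-- Automorphisms over the two punctured branches glue to an automorphism over the complement of the origin. -/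
theorem exists_V (h₁ h₂ : E hst.1 η Gm.{u} ⟶ E hst.1 η Gm) :
    ∃ g : E hst.1 η V.{u}.toScheme ⟶ E hst.1 η V.toScheme,
      r hst.1 η w₁ g = h₁ ∧ r hst.1 η w₂ g = h₂ := by
  have hp := hst.1
  let Q := pullback w₁.{u} w₂.{u}
  have hQ : IsEmpty (prd T Q).left := by
    refine ⟨fun x => ?_⟩
    have h := Scheme.Hom.comp_apply (pullback.fst w₁.{u} w₂) w₁ (p₂ T Q x)
    rw [pullback.condition, Scheme.Hom.comp_apply] at h
    exact w₁_ne_w₂ _ _ h.symm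
  have pair := openPair (T := T) (IsPullback.of_hasPullback w₁.{u} w₂) exists_w
  obtain ⟨g, hg, e1, e2⟩ := Pair.exists_hom hst pair (m_lift hp η _) (m_lift hp η _)
    (m_lift hp η w₁) (m_lift hp η w₂) (by rw [← m_comp, ← m_comp, pullback.condition])
    (g := 𝟙 _) (γ₁ := h₁.1 ≫ m hp η w₁) (γ₂ := h₂.1 ≫ m hp η w₂)
    (lift_comp' h₁.2 (m_lift hp η w₁) (by rw [Category.id_comp, Category.comp_id]))
    (lift_comp' h₂.2 (m_lift hp η w₂) (by rw [Category.id_comp, Category.comp_id])) (by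
      refine hom_empty hst (W := prd T Q) (g := mapR T (pullback.fst w₁.{u} w₂ ≫ w₁)) ?_ ?_
      · exact lift_comp' (m_lift hp η _) (lift_id_comp h₁.2 (m_lift hp η w₁)) (mapR_comp _ _ _).symm
      · exact lift_comp' (m_lift hp η _) (lift_id_comp h₂.2 (m_lift hp η w₂))
          (by rw [pullback.condition, mapR_comp]))
  exact ⟨⟨g, hg⟩, (r_uniq hp η w₁ e1.symm).symm, (r_uniq hp η w₂ e2.symm).symm⟩

include hst in
theorem V_ext {h k : E hst.1 η V.{u}.toScheme ⟶ E hst.1 η V.toScheme}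
    (e₁ : r hst.1 η w₁ h = r hst.1 η w₁ k) (e₂ : r hst.1 η w₂ h = r hst.1 η w₂ k) : h = k := by
  have hp := hst.1
  refine Subtype.ext (Pair.hom_unique hst (openPair (T := T) (IsPullback.of_hasPullback w₁.{u} w₂)
    exists_w) (m_lift hp η w₁) (m_lift hp η w₂) h.2 k.2 ?_ ?_)
  · rw [← r_fac, ← r_fac, e₁]
  · rw [← r_fac, ← r_fac, e₂]

end Glue

end K863.Frame
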