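import Groth.Agent.IsoNat.K863.Arr

/-!
# Gluing of morphisms and objects in a stack, in terms of arrows
-/

set_option autoImplicit false
set_option backward.isDefEq.respectTransparency false
set_option backward.isDefEq.respectTransparency.types false

universe v₂ u₂ v u

open CategoryTheory

namespace K863.Glue

open K863.Arr

variable {C : Type u} [Category.{v} C] {𝒳 : BasedCategory.{v₂, u₂} C}

section Yon

variable (hp : FibCat.IsFibGrpd 𝒳.p) {U : C} (x : 𝒳.obj) (hx : 𝒳.p.obj x = U)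

/-- Chosen pullback of `x` to an object of the slice. -/
noncomputable def yObj (A : Over U) : 𝒳.obj := (exists_lift hp hx A.hom).choose

/-- The arrow from the chosen pullback. -/
noncomputable def yArr (A : Over U) : yObj hp x hx A ⟶ x := (exists_lift hp hx A.hom).choose_spec.choose

theorem yArr_lift (A : Over U) : 𝒳.p.IsHomLift A.hom (yArr hp x hx A) :=
  (exists_lift hp hx A.hom).choose_spec.choose_spec

theorem yMap_aux {A B : Over U} (k : A ⟶ B) : ∃ χ : yObj hp x hx A ⟶ yObj hp x hx B,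
    𝒳.p.IsHomLift k.left χ ∧ χ ≫ yArr hp x hx B = yArr hp x hx A :=
  exists_fac hp (yArr_lift hp x hx B) (yArr_lift hp x hx A) (Over.w k)

/-- Functoriality of the chosen pullback. -/
noncomputable def yMap {A B : Over U} (k : A ⟶ B) : yObj hp x hx A ⟶ yObj hp x hx B :=
  (yMap_aux hp x hx k).choose

theorem yMap_lift {A B : Over U} (k : A ⟶ B) : 𝒳.p.IsHomLift k.left (yMap hp x hx k) :=
  (yMap_aux hp x hx k).choose_spec.1

theorem yMap_fac {A B : Over U} (k : A ⟶ B) : yMap hp x hx k ≫ yArr hp x hx B = yArr hp x hx A :=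
  (yMap_aux hp x hx k).choose_spec.2

/-- The functor of pullbacks of `x`. -/
noncomputable def yFun : Over U ⥤ 𝒳.obj where
  obj A := yObj hp x hx A
  map k := yMap hp x hx k
  map_id A := fac_unique hp (yArr hp x hx A) (yMap_lift hp x hx (𝟙 A))
    (lift_id (dom (yArr_lift hp x hx A))) (by rw [yMap_fac, Category.id_comp])
  map_comp {A B D} k l := fac_unique hp (yArr hp x hx D) (yMap_lift hp x hx (k ≫ l))
    (lift_comp' (yMap_lift hp x hx k) (yMap_lift hp x hx l) (Over.comp_left _ _ _ k l).symm)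
    (by rw [yMap_fac, Category.assoc, yMap_fac, yMap_fac])

/-- The functor `(C/U) ⟶ 𝒳` of pullbacks of `x` (2-Yoneda). -/
noncomputable def yon : FibCat.overCat U ⥤ᵇ 𝒳 :=
  mkBased (𝒜 := FibCat.overCat U) (yFun hp x hx) (fun k => yMap_lift hp x hx k)

end Yon

section Hom

variable (hp : FibCat.IsFibGrpd 𝒳.p)

include hp

/-- Gluing of morphisms, sieve form, over the identity. -/
theorem exists_hom_sieve_id {U : C} (R : Sieve U) (hR : Stk.IsPrestackFor R 𝒳) {z w : 𝒳.obj}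
    (hz : 𝒳.p.obj z = U) (hw : 𝒳.p.obj w = U)
    (m : ∀ {V : C} (h : V ⟶ U) (_ : R h) (t : 𝒳.obj) (α : t ⟶ z) (_ : 𝒳.p.IsHomLift h α), t ⟶ w)
    (m_lift : ∀ {V : C} (h : V ⟶ U) (hh : R h) (t : 𝒳.obj) (α : t ⟶ z) (hα : 𝒳.p.IsHomLift h α),
      𝒳.p.IsHomLift h (m h hh t α hα))
    (m_nat : ∀ {V V' : C} (h : V ⟶ U) (hh : R h) (κ : V' ⟶ V) (hh' : R (κ ≫ h)) (t t' : 𝒳.obj)
      (α : t ⟶ z) (hα : 𝒳.p.IsHomLift h α) (k : t' ⟶ t) (_ : 𝒳.p.IsHomLift κ k)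
      (hα' : 𝒳.p.IsHomLift (κ ≫ h) (k ≫ α)), m (κ ≫ h) hh' t' (k ≫ α) hα' = k ≫ m h hh t α hα) :
    ∃ γ : z ⟶ w, 𝒳.p.IsHomLift (𝟙 U) γ ∧
      ∀ {V : C} (h : V ⟶ U) (hh : R h) (t : 𝒳.obj) (α : t ⟶ z) (hα : 𝒳.p.IsHomLift h α),
        α ≫ γ = m h hh t α hα := by
  -- naturality with a prescribed base arrow
  have m_nat' : ∀ {V V' : C} (h : V ⟶ U) (hh : R h) (κ : V' ⟶ V) (h' : V' ⟶ U) (hh' : R h')
      (e : κ ≫ h = h') (t t' : 𝒳.obj) (α : t ⟶ z) (hα : 𝒳.p.IsHomLift h α) (α' : t' ⟶ z)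
      (hα' : 𝒳.p.IsHomLift h' α') (k : t' ⟶ t) (_ : 𝒳.p.IsHomLift κ k) (_ : k ≫ α = α'),
      m h' hh' t' α' hα' = k ≫ m h hh t α hα := by
    intro V V' h hh κ h' hh' e t t' α hα α' hα' k hk ek
    subst e; subst ek
    exact m_nat h hh κ hh' t t' α hα k hk hα'
  -- the components
  have key : ∀ A : (Stk.sieveCat R).obj, ∃ χ : yObj hp z hz A.obj ⟶ yObj hp w hw A.obj,
      𝒳.p.IsHomLift (𝟙 A.obj.left) χ ∧
        χ ≫ yArr hp w hw A.obj = m A.obj.hom A.property _ _ (yArr_lift hp z hz A.obj) := by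
    intro A
    exact exists_vert hp (yArr_lift hp w hw A.obj)
      (m_lift A.obj.hom A.property _ _ (yArr_lift hp z hz A.obj))
  choose t ht ht' using key
  let τ : (Stk.resSieve R 𝒳).obj (yon hp z hz) ⟶ (Stk.resSieve R 𝒳).obj (yon hp w hw) :=
    { toNatTrans :=
        { app := fun A => t A
          naturality := by
            intro A B k
            change yMap hp z hz k.hom ≫ t B = t A ≫ yMap hp w hw k.hom
            refine fac_unique hp (yArr hp w hw B.obj) (g := k.hom.left)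
              (lift_comp_id (yMap_lift hp z hz k.hom) (ht B))
              (lift_id_comp (ht A) (yMap_lift hp w hw k.hom)) ?_
            rw [Category.assoc, Category.assoc, ht', yMap_fac, ht']
            refine (m_nat' B.obj.hom B.property k.hom.left A.obj.hom A.property (Over.w k.hom)
              _ _ _ _ _ _ _ ?_ ?_).symm
            · exact yMap_lift hp z hz k.hom
            · exact yMap_fac hp z hz k.hom }
      isHomLift' := fun A => ht A }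
  obtain ⟨hfull, -⟩ := hR
  obtain ⟨σ, hσ⟩ := hfull.map_surjective τ
  have hσ' : ∀ A : (Stk.sieveCat R).obj, σ.toNatTrans.app A.obj = t A := fun A => by
    have := congrArg (fun ρ => ρ.toNatTrans.app A) hσ
    exact this
  let I : Over U := Over.mk (𝟙 U)
  have hI : 𝒳.p.IsHomLift (𝟙 U) (yArr hp z hz I) := yArr_lift hp z hz I
  have hI' : 𝒳.p.IsHomLift (𝟙 U) (yArr hp w hw I) := yArr_lift hp w hw I
  have hσI : 𝒳.p.IsHomLift (𝟙 U) (σ.toNatTrans.app I) := σ.isHomLift' I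
  have : IsIso (yArr hp z hz I) := isIso_of_id hp hI
  refine ⟨inv (yArr hp z hz I) ≫ σ.toNatTrans.app I ≫ yArr hp w hw I,
    lift_id_comp (lift_inv hI) (lift_id_comp hσI hI'), ?_⟩
  intro V h hh v α hα
  let A : (Stk.sieveCat R).obj := ⟨Over.mk h, hh⟩
  obtain ⟨κ, hκ, hκ'⟩ := exists_vert hp (yArr_lift hp z hz A.obj) (z := v) (ψ := α) hα
  let k : A.obj ⟶ I := Over.homMk h (Category.comp_id _)
  have e1 : α ≫ inv (yArr hp z hz I) = κ ≫ yMap hp z hz k := by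
    rw [IsIso.comp_inv_eq, Category.assoc, yMap_fac, hκ']
  have e2 : yMap hp z hz k ≫ σ.toNatTrans.app I = σ.toNatTrans.app A.obj ≫ yMap hp w hw k :=
    σ.toNatTrans.naturality k
  rw [← Category.assoc, e1, Category.assoc, ← Category.assoc (yMap hp z hz k), e2, hσ' A,
    Category.assoc, yMap_fac, ht' A]
  exact (m_nat' A.obj.hom A.property (𝟙 V) h hh (Category.id_comp _) _ _ _ _ _ hα κ hκ hκ').symm

/-- Gluing of morphisms, uniqueness, sieve form. -/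
theorem hom_unique_sieve {U W : C} (R : Sieve U) (hR : Stk.IsPrestackFor R 𝒳) {z w : 𝒳.obj}
    (hz : 𝒳.p.obj z = U) {g : U ⟶ W} {γ γ' : z ⟶ w} (hγ : 𝒳.p.IsHomLift g γ)
    (hγ' : 𝒳.p.IsHomLift g γ')
    (h : ∀ {V : C} (h : V ⟶ U) (_ : R h) (t : 𝒳.obj) (α : t ⟶ z) (_ : 𝒳.p.IsHomLift h α),
      α ≫ γ = α ≫ γ') : γ = γ' := by
  -- reduce to the identity
  obtain ⟨w', ω, hω⟩ := exists_lift hp (cod hγ) g
  obtain ⟨δ, hδ, rfl⟩ := exists_vert hp hω hγ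
  obtain ⟨δ', hδ', rfl⟩ := exists_vert hp hω hγ'
  have hw' : 𝒳.p.obj w' = U := dom hω
  have h2 : ∀ {V : C} (h : V ⟶ U) (_ : R h) (t : 𝒳.obj) (α : t ⟶ z) (_ : 𝒳.p.IsHomLift h α),
      α ≫ δ = α ≫ δ' := by
    intro V k hk t α hα
    refine fac_unique hp ω (lift_comp_id hα hδ) (lift_comp_id hα hδ') ?_
    rw [Category.assoc, Category.assoc]
    exact h k hk t α hα
  suffices δ = δ' by rw [this]
  obtain ⟨-, hfaith⟩ := hR
  -- transformations induced by δ, δ'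
  have mk : ∀ (d : z ⟶ w') (hd : 𝒳.p.IsHomLift (𝟙 U) d), ∃ σ : yon hp z hz ⟶ yon hp w' hw',
      ∀ A : Over U, σ.toNatTrans.app A ≫ yArr hp w' hw' A = yArr hp z hz A ≫ d := by
    intro d hd
    have key : ∀ A : Over U, ∃ χ : yObj hp z hz A ⟶ yObj hp w' hw' A,
        𝒳.p.IsHomLift (𝟙 A.left) χ ∧ χ ≫ yArr hp w' hw' A = yArr hp z hz A ≫ d := fun A =>
      exists_vert hp (yArr_lift hp w' hw' A) (lift_comp_id (yArr_lift hp z hz A) hd)
    choose t ht ht' using key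
    refine ⟨{ toNatTrans := { app := fun A => t A, naturality := ?_ }, isHomLift' := fun A => ht A },
      fun A => ht' A⟩
    intro A B k
    change yMap hp z hz k ≫ t B = t A ≫ yMap hp w' hw' k
    refine fac_unique hp (yArr hp w' hw' B) (g := k.left)
      (lift_comp_id (yMap_lift hp z hz k) (ht B))
      (lift_id_comp (ht A) (yMap_lift hp w' hw' k)) ?_
    rw [Category.assoc, Category.assoc, ht', yMap_fac, ht', ← Category.assoc, yMap_fac]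
  obtain ⟨σ, hσ⟩ := mk δ hδ
  obtain ⟨σ', hσ'⟩ := mk δ' hδ'
  have e : σ = σ' := by
    apply hfaith.map_injective
    apply BasedNatTrans.homCategory.ext
    ext A
    change σ.toNatTrans.app A.obj = σ'.toNatTrans.app A.obj
    refine fac_unique hp (yArr hp w' hw' A.obj) (g := 𝟙 A.obj.left) (σ.isHomLift' A.obj)
      (σ'.isHomLift' A.obj) ?_
    rw [hσ, hσ']
    exact h2 A.obj.hom A.property _ _ (yArr_lift hp z hz A.obj)
  let I : Over U := Over.mk (𝟙 U)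
  have : IsIso (yArr hp z hz I) := isIso_of_id hp (yArr_lift hp z hz I)
  have e1 := hσ I
  have e2 := hσ' I
  rw [e, e2] at e1
  exact ((cancel_epi _).1 e1).symm

/-- Gluing of morphisms, sieve form. -/
theorem exists_hom_sieve {U W : C} (R : Sieve U) (hR : Stk.IsPrestackFor R 𝒳) {z w : 𝒳.obj}
    (hz : 𝒳.p.obj z = U) (hw : 𝒳.p.obj w = W) (g : U ⟶ W)
    (m : ∀ {V : C} (h : V ⟶ U) (_ : R h) (t : 𝒳.obj) (α : t ⟶ z) (_ : 𝒳.p.IsHomLift h α), t ⟶ w)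
    (m_lift : ∀ {V : C} (h : V ⟶ U) (hh : R h) (t : 𝒳.obj) (α : t ⟶ z) (hα : 𝒳.p.IsHomLift h α),
      𝒳.p.IsHomLift (h ≫ g) (m h hh t α hα))
    (m_nat : ∀ {V V' : C} (h : V ⟶ U) (hh : R h) (κ : V' ⟶ V) (hh' : R (κ ≫ h)) (t t' : 𝒳.obj)
      (α : t ⟶ z) (hα : 𝒳.p.IsHomLift h α) (k : t' ⟶ t) (_ : 𝒳.p.IsHomLift κ k)
      (hα' : 𝒳.p.IsHomLift (κ ≫ h) (k ≫ α)), m (κ ≫ h) hh' t' (k ≫ α) hα' = k ≫ m h hh t α hα) :
    ∃ γ : z ⟶ w, 𝒳.p.IsHomLift g γ ∧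
      ∀ {V : C} (h : V ⟶ U) (hh : R h) (t : 𝒳.obj) (α : t ⟶ z) (hα : 𝒳.p.IsHomLift h α),
        α ≫ γ = m h hh t α hα := by
  obtain ⟨w', ω, hω⟩ := exists_lift hp hw g
  have key : ∀ {V : C} (h : V ⟶ U) (hh : R h) (t : 𝒳.obj) (α : t ⟶ z) (hα : 𝒳.p.IsHomLift h α),
      ∃ χ : t ⟶ w', 𝒳.p.IsHomLift h χ ∧ χ ≫ ω = m h hh t α hα := fun h hh t α hα =>
    exists_fac hp hω (m_lift h hh t α hα) rfl
  choose n hn hn' using @key
  obtain ⟨γ, hγ, hγ'⟩ := exists_hom_sieve_id hp R hR hz (dom hω) (fun h hh t α hα => n h hh t α hα)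
    (fun h hh t α hα => hn h hh t α hα) (by
      intro V V' h hh κ hh' t t' α hα k hk hα'
      refine fac_unique hp ω (g := κ ≫ h) (hn _ _ _ _ _) (lift_comp hk (hn _ _ _ _ _)) ?_
      rw [Category.assoc, hn', hn']
      exact m_nat h hh κ hh' t t' α hα k hk hα')
  refine ⟨γ ≫ ω, lift_id_comp hγ hω, ?_⟩
  intro V h hh t α hα
  rw [← Category.assoc, hγ' h hh t α hα, hn']

end Hom

section Fam

variable (hp : FibCat.IsFibGrpd 𝒳.p) {I : Type*} {U : C} {V : I → C} (f : ∀ i, V i ⟶ U)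

include hp

/-- Gluing of morphisms along a family, existence. -/
theorem exists_hom_fam (hR : Stk.IsPrestackFor (Sieve.ofArrows V f) 𝒳) {z w : 𝒳.obj}
    (hz : 𝒳.p.obj z = U) {W : C} (hw : 𝒳.p.obj w = W) (g : U ⟶ W) (x : I → 𝒳.obj)
    (ζ : ∀ i, x i ⟶ z) (hζ : ∀ i, 𝒳.p.IsHomLift (f i) (ζ i))
    (γ : ∀ i, x i ⟶ w) (hγ : ∀ i, 𝒳.p.IsHomLift (f i ≫ g) (γ i))
    (H : ∀ (i j : I) {T : C} (a : T ⟶ V i) (b : T ⟶ V j) (t : 𝒳.obj) (α : t ⟶ x i) (β : t ⟶ x j),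
      𝒳.p.IsHomLift a α → 𝒳.p.IsHomLift b β → α ≫ ζ i = β ≫ ζ j → α ≫ γ i = β ≫ γ j) :
    ∃ γ' : z ⟶ w, 𝒳.p.IsHomLift g γ' ∧ ∀ i, ζ i ≫ γ' = γ i := by
  have key : ∀ {T : C} (h : T ⟶ U) (hh : Sieve.ofArrows V f h) (t : 𝒳.obj) (α : t ⟶ z)
      (hα : 𝒳.p.IsHomLift h α), ∃ (i : I) (a : T ⟶ V i) (α' : t ⟶ x i), a ≫ f i = h ∧
        𝒳.p.IsHomLift a α' ∧ α' ≫ ζ i = α := by
    intro T h hh t α hα
    obtain ⟨i, a, e⟩ := (Sieve.mem_ofArrows_iff _ _ _).1 hh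
    obtain ⟨α', h1, h2⟩ := exists_fac hp (hζ i) hα e.symm
    exact ⟨i, a, α', e.symm, h1, h2⟩
  choose i a α' e h1 h2 using @key
  obtain ⟨γ', hγ', hγ''⟩ := exists_hom_sieve hp (Sieve.ofArrows V f) hR hz hw g
    (fun h hh t α hα => α' h hh t α hα ≫ γ _)
    (fun h hh t α hα => lift_comp' (h1 h hh t α hα) (hγ _) (by rw [← Category.assoc, e]))
    (by
      intro T T' h hh κ hh' t t' α hα k hk hα'
      rw [← Category.assoc]
      refine H _ _ _ _ _ _ _ (h1 _ _ _ _ _) (lift_comp hk (h1 _ _ _ _ _)) ?_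
      rw [Category.assoc, h2, h2])
  refine ⟨γ', hγ', fun j => ?_⟩
  have hj : Sieve.ofArrows V f (f j) := Sieve.ofArrows_mk _ _ _
  rw [hγ'' (f j) hj (x j) (ζ j) (hζ j)]
  have := H (i (f j) hj _ _ (hζ j)) j (a (f j) hj _ _ (hζ j)) (𝟙 _) (x j)
    (α' (f j) hj _ _ (hζ j)) (𝟙 _) (h1 _ _ _ _ _) (lift_id (dom (hζ j)))
    (by rw [h2, Category.id_comp])
  rw [this, Category.id_comp]

/-- Gluing of morphisms along a family, uniqueness. -/
theorem hom_unique_fam (hR : Stk.IsPrestackFor (Sieve.ofArrows V f) 𝒳) {z w : 𝒳.obj}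
    (hz : 𝒳.p.obj z = U) {W : C} {g : U ⟶ W} (x : I → 𝒳.obj)
    (ζ : ∀ i, x i ⟶ z) (hζ : ∀ i, 𝒳.p.IsHomLift (f i) (ζ i))
    {γ γ' : z ⟶ w} (hγ : 𝒳.p.IsHomLift g γ) (hγ' : 𝒳.p.IsHomLift g γ')
    (H : ∀ i, ζ i ≫ γ = ζ i ≫ γ') : γ = γ' := by
  refine hom_unique_sieve hp _ hR hz hγ hγ' ?_
  intro T h hh t α hα
  obtain ⟨i, a, e⟩ := (Sieve.mem_ofArrows_iff _ _ _).1 hh
  obtain ⟨α', h1, h2⟩ := exists_fac hp (hζ i) hα e.symm
  rw [← h2, Category.assoc, Category.assoc, H]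

end Fam

section Obj

variable (hp : FibCat.IsFibGrpd 𝒳.p) {I : Type*} {U : C} {V : I → C} (f : ∀ i, V i ⟶ U)

include hp in
/-- Gluing of objects along a family: a descent datum given as a natural, transitive way `m` of turning arrows
`t ⟶ x i` over `a` into arrows `t ⟶ x j` over `b`, whenever `a ≫ f i = b ≫ f j`. -/
theorem exists_obj_fam (hR : Stk.IsStackFor (Sieve.ofArrows V f) 𝒳) (x : I → 𝒳.obj)
    (hx : ∀ i, 𝒳.p.obj (x i) = V i)
    (m : ∀ {i j : I} {T : C} (a : T ⟶ V i) (b : T ⟶ V j) (_ : a ≫ f i = b ≫ f j) (t : 𝒳.obj)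
      (α : t ⟶ x i) (_ : 𝒳.p.IsHomLift a α), t ⟶ x j)
    (m_lift : ∀ {i j : I} {T : C} (a : T ⟶ V i) (b : T ⟶ V j) (e : a ≫ f i = b ≫ f j) (t : 𝒳.obj)
      (α : t ⟶ x i) (hα : 𝒳.p.IsHomLift a α), 𝒳.p.IsHomLift b (m a b e t α hα))
    (m_nat : ∀ {i j : I} {T T' : C} (a : T ⟶ V i) (b : T ⟶ V j) (e : a ≫ f i = b ≫ f j)
      (κ : T' ⟶ T) (t t' : 𝒳.obj) (α : t ⟶ x i) (hα : 𝒳.p.IsHomLift a α) (k : t' ⟶ t)
      (hk : 𝒳.p.IsHomLift κ k) (e' : (κ ≫ a) ≫ f i = (κ ≫ b) ≫ f j),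
      m (κ ≫ a) (κ ≫ b) e' t' (k ≫ α) (lift_comp hk hα) = k ≫ m a b e t α hα)
    (m_comp : ∀ {i j l : I} {T : C} (a : T ⟶ V i) (b : T ⟶ V j) (c : T ⟶ V l)
      (e : a ≫ f i = b ≫ f j) (e' : b ≫ f j = c ≫ f l) (t : 𝒳.obj) (α : t ⟶ x i)
      (hα : 𝒳.p.IsHomLift a α),
      m b c e' t (m a b e t α hα) (m_lift a b e t α hα) = m a c (e.trans e') t α hα)
    (m_self : ∀ {i : I} {T : C} (a : T ⟶ V i) (t : 𝒳.obj) (α : t ⟶ x i)
      (hα : 𝒳.p.IsHomLift a α), m a a rfl t α hα = α) :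
    ∃ (z : 𝒳.obj) (_ : 𝒳.p.obj z = U) (ζ : ∀ i, x i ⟶ z), (∀ i, 𝒳.p.IsHomLift (f i) (ζ i)) ∧
      ∀ {i j : I} {T : C} (a : T ⟶ V i) (b : T ⟶ V j) (e : a ≫ f i = b ≫ f j) (t : 𝒳.obj)
        (α : t ⟶ x i) (hα : 𝒳.p.IsHomLift a α), m a b e t α hα ≫ ζ j = α ≫ ζ i := by
  -- choices for every object of the sieve
  have key : ∀ A : (Stk.sieveCat (Sieve.ofArrows V f)).obj, ∃ (i : I) (a : A.obj.left ⟶ V i)
      (g : 𝒳.obj) (l : g ⟶ x i), a ≫ f i = A.obj.hom ∧ 𝒳.p.IsHomLift a l := by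
    intro A
    obtain ⟨i, a, e⟩ := (Sieve.mem_ofArrows_iff _ _ _).1 A.property
    obtain ⟨g, l, hl⟩ := exists_lift hp (hx i) a
    exact ⟨i, a, g, l, e.symm, hl⟩
  choose i a G l e hl using key
  -- arrows into the chosen objects
  have key2 : ∀ (A : (Stk.sieveCat (Sieve.ofArrows V f)).obj) {j : I} {T : C} (k : T ⟶ A.obj.left)
      (b : T ⟶ V j) (_ : b ≫ f j = k ≫ A.obj.hom) (t : 𝒳.obj) (β : t ⟶ x j)
      (_ : 𝒳.p.IsHomLift b β), ∃ χ : t ⟶ G A, 𝒳.p.IsHomLift k χ ∧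
        ∀ e' : b ≫ f j = (k ≫ a A) ≫ f (i A), χ ≫ l A = m b (k ≫ a A) e' t β ‹_› := by
    intro A j T k b eb t β hβ
    have e' : b ≫ f j = (k ≫ a A) ≫ f (i A) := by rw [eb, Category.assoc, e A]
    obtain ⟨χ, h1, h2⟩ := exists_fac hp (hl A) (m_lift b (k ≫ a A) e' t β hβ) rfl
    exact ⟨χ, h1, fun _ => h2⟩
  -- congruence for m
  have m_congr : ∀ {i j : I} {T : C} (a a' : T ⟶ V i) (b b' : T ⟶ V j) (e : a ≫ f i = b ≫ f j)
      (e' : a' ≫ f i = b' ≫ f j) (t : 𝒳.obj) (α α' : t ⟶ x i) (hα : 𝒳.p.IsHomLift a α)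
      (hα' : 𝒳.p.IsHomLift a' α') (_ : a = a') (_ : b = b') (_ : α = α'),
      m a b e t α hα = m a' b' e' t α' hα' := by
    intro i j T a a' b b' e e' t α α' hα hα' h1 h2 h3
    subst h1; subst h2; subst h3; rfl
  -- functor on the sieve
  have key3 : ∀ {A B : (Stk.sieveCat (Sieve.ofArrows V f)).obj} (k : A ⟶ B), ∃ χ : G A ⟶ G B,
      𝒳.p.IsHomLift k.hom.left χ ∧ ∀ e' : a A ≫ f (i A) = (k.hom.left ≫ a B) ≫ f (i B),
        χ ≫ l B = m (a A) (k.hom.left ≫ a B) e' (G A) (l A) (hl A) := by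
    intro A B k
    exact key2 B k.hom.left (a A) (by rw [e A]; exact (Over.w k.hom).symm) (G A) (l A) (hl A)
  choose Gm hGm hGm' using @key3
  have ee : ∀ {A B : (Stk.sieveCat (Sieve.ofArrows V f)).obj} (k : A ⟶ B),
      a A ≫ f (i A) = (k.hom.left ≫ a B) ≫ f (i B) := by
    intro A B k
    rw [e A, Category.assoc, e B]; exact (Over.w k.hom).symm
  let GF : (Stk.sieveCat (Sieve.ofArrows V f)).obj ⥤ 𝒳.obj :=
    { obj := G
      map := fun k => Gm k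
      map_id := by
        intro A
        refine fac_unique hp (l A) (hGm (𝟙 A)) (lift_id (dom (hl A))) ?_
        rw [hGm' _ (ee (𝟙 A)), Category.id_comp]
        refine Eq.trans ?_ (m_self (a A) (G A) (l A) (hl A))
        exact m_congr _ _ _ _ _ _ _ _ _ _ _ rfl (Category.id_comp _) rfl
      map_comp := by
        intro A B D k k'
        refine fac_unique hp (l D) (hGm (k ≫ k')) (lift_comp (hGm k) (hGm k')) ?_
        rw [hGm' _ (ee (k ≫ k')), Category.assoc, hGm' k' (ee k')]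
        have hk := hGm k
        rw [← m_nat (a B) (k'.hom.left ≫ a D) (ee k') k.hom.left (G B) (G A) (l B) (hl B) (Gm k) hk
          (by rw [Category.assoc, Category.assoc, ← ee k'])]
        have := m_comp (a A) (k.hom.left ≫ a B) (k.hom.left ≫ k'.hom.left ≫ a D) (ee k)
          (by rw [Category.assoc, Category.assoc, ← ee k']) (G A) (l A) (hl A)
        rw [m_congr (k.hom.left ≫ a B) (k.hom.left ≫ a B) _ (k.hom.left ≫ k'.hom.left ≫ a D) _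
          (by rw [Category.assoc, Category.assoc, ← ee k']) (G A) (Gm k ≫ l B) _ _
          (m_lift _ _ (ee k) _ _ (hl A)) rfl rfl (hGm' k (ee k)), this]
        exact m_congr _ _ _ _ _ _ _ _ _ _ _ rfl (Category.assoc _ _ _) rfl }
  let GB : Stk.sieveCat (Sieve.ofArrows V f) ⥤ᵇ 𝒳 := mkBased GF (fun k => hGm k)
  have : (Stk.resSieve (Sieve.ofArrows V f) 𝒳).IsEquivalence := hR
  let Z := (Stk.resSieve (Sieve.ofArrows V f) 𝒳).objPreimage GB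
  let ε : (Stk.resSieve (Sieve.ofArrows V f) 𝒳).obj Z ≅ GB :=
    (Stk.resSieve (Sieve.ofArrows V f) 𝒳).objObjPreimageIso GB
  let J : Over U := Over.mk (𝟙 U)
  -- the arrow to the glued object attached to an arrow `t ⟶ x j` over `b`
  have hAi : ∀ {j : I} {T : C} (b : T ⟶ V j), Sieve.ofArrows V f (b ≫ f j) := fun {j T} b =>
    (Sieve.mem_ofArrows_iff _ _ _).2 ⟨j, b, rfl⟩
  have key4 : ∀ {j : I} {T : C} (b : T ⟶ V j) (t : 𝒳.obj) (β : t ⟶ x j) (_ : 𝒳.p.IsHomLift b β),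
      ∃ χ : t ⟶ G ⟨Over.mk (b ≫ f j), hAi b⟩, 𝒳.p.IsHomLift (𝟙 T) χ ∧
        ∀ e' : b ≫ f j = a ⟨Over.mk (b ≫ f j), hAi b⟩ ≫ f (i ⟨Over.mk (b ≫ f j), hAi b⟩),
          χ ≫ l ⟨Over.mk (b ≫ f j), hAi b⟩ = m b (a ⟨Over.mk (b ≫ f j), hAi b⟩) e' t β ‹_› := by
    intro j T b t β hβ
    obtain ⟨χ, h1, h2⟩ := key2 ⟨Over.mk (b ≫ f j), hAi b⟩ (𝟙 T) b (Category.id_comp _).symm t β hβ
    refine ⟨χ, h1, fun e' => ?_⟩
    rw [h2 (by rw [Category.id_comp]; exact e')]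
    exact m_congr _ _ _ _ _ _ _ _ _ _ _ rfl (Category.id_comp _) rfl
  choose ρ hρ hρ' using @key4
  let toZ : ∀ {j : I} {T : C} (b : T ⟶ V j) (t : 𝒳.obj) (β : t ⟶ x j) (_ : 𝒳.p.IsHomLift b β),
      t ⟶ Z.obj J := fun {j T} b t β hβ =>
    ρ b t β hβ ≫ ε.inv.toNatTrans.app ⟨Over.mk (b ≫ f j), hAi b⟩ ≫
      Z.map (Over.homMk (b ≫ f j) (Category.comp_id _) : Over.mk (b ≫ f j) ⟶ J)
  have toZ_lift : ∀ {j : I} {T : C} (b : T ⟶ V j) (t : 𝒳.obj) (β : t ⟶ x j)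
      (hβ : 𝒳.p.IsHomLift b β), 𝒳.p.IsHomLift (b ≫ f j) (toZ b t β hβ) := by
    intro j T b t β hβ
    have h1 : 𝒳.p.IsHomLift (𝟙 T) (ε.inv.toNatTrans.app ⟨Over.mk (b ≫ f j), hAi b⟩) :=
      ε.inv.isHomLift' ⟨Over.mk (b ≫ f j), hAi b⟩
    refine lift_id_comp (hρ b t β hβ) (lift_id_comp h1 ?_)
    exact map_lift Z (IsHomLift.map (FibCat.overCat U).p
      (Over.homMk (b ≫ f j) (Category.comp_id _) : Over.mk (b ≫ f j) ⟶ J))
  -- compatibility with m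
  have toZ_m : ∀ {j j' : I} {T : C} (b : T ⟶ V j) (c : T ⟶ V j') (e' : b ≫ f j = c ≫ f j')
      (t : 𝒳.obj) (β : t ⟶ x j) (hβ : 𝒳.p.IsHomLift b β),
      toZ c t (m b c e' t β hβ) (m_lift b c e' t β hβ) = toZ b t β hβ := by
    intro j j' T b c e' t β hβ
    -- transport along the equality of base arrows
    have aux : ∀ (h h' : T ⟶ U) (hh : Sieve.ofArrows V f h) (hh' : Sieve.ofArrows V f h')
        (_ : h = h') (r : t ⟶ G ⟨Over.mk h, hh⟩) (r' : t ⟶ G ⟨Over.mk h', hh'⟩)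
        (_ : 𝒳.p.IsHomLift (𝟙 T) r) (_ : 𝒳.p.IsHomLift (𝟙 T) r')
        (_ : ∀ (q : b ≫ f j = a ⟨Over.mk h, hh⟩ ≫ f (i ⟨Over.mk h, hh⟩)),
          r ≫ l ⟨Over.mk h, hh⟩ = m b (a ⟨Over.mk h, hh⟩) q t β hβ)
        (_ : ∀ (q : b ≫ f j = a ⟨Over.mk h', hh'⟩ ≫ f (i ⟨Over.mk h', hh'⟩)),
          r' ≫ l ⟨Over.mk h', hh'⟩ = m b (a ⟨Over.mk h', hh'⟩) q t β hβ)
        (_ : b ≫ f j = h),
        r ≫ ε.inv.toNatTrans.app ⟨Over.mk h, hh⟩ ≫
          Z.map (Over.homMk h (Category.comp_id _) : Over.mk h ⟶ J) =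
        r' ≫ ε.inv.toNatTrans.app ⟨Over.mk h', hh'⟩ ≫
          Z.map (Over.homMk h' (Category.comp_id _) : Over.mk h' ⟶ J) := by
      intro h h' hh hh' hhh r r' hr hr' h1 h2 h3
      subst hhh
      have : r = r' := by
        refine fac_unique hp (l ⟨Over.mk h, hh⟩) hr hr' ?_
        have q : b ≫ f j = a ⟨Over.mk h, hh⟩ ≫ f (i ⟨Over.mk h, hh⟩) := by
          rw [e ⟨Over.mk h, hh⟩]; exact h3
        rw [h1 q, h2 q]
      rw [this]
    refine aux _ _ _ _ e'.symm _ _ (hρ _ _ _ _) (hρ _ _ _ _) ?_ ?_ e'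
    · intro q
      have q2 : c ≫ f j' = a ⟨Over.mk (c ≫ f j'), hAi c⟩ ≫ f (i ⟨Over.mk (c ≫ f j'), hAi c⟩) :=
        e'.symm.trans q
      rw [hρ' _ _ _ _ q2]
      exact m_comp b c _ e' q2 t β hβ
    · intro q
      exact hρ' _ _ _ _ q
  -- naturality
  have toZ_nat : ∀ {j : I} {T T' : C} (b : T ⟶ V j) (κ : T' ⟶ T) (t t' : 𝒳.obj) (β : t ⟶ x j)
      (hβ : 𝒳.p.IsHomLift b β) (k : t' ⟶ t) (hk : 𝒳.p.IsHomLift κ k),
      toZ (κ ≫ b) t' (k ≫ β) (lift_comp hk hβ) = k ≫ toZ b t β hβ := by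
    intro j T T' b κ t t' β hβ k hk
    let A : (Stk.sieveCat (Sieve.ofArrows V f)).obj := ⟨Over.mk ((κ ≫ b) ≫ f j), hAi (κ ≫ b)⟩
    let B : (Stk.sieveCat (Sieve.ofArrows V f)).obj := ⟨Over.mk (b ≫ f j), hAi b⟩
    let kk : A ⟶ B := ObjectProperty.homMk
      (Over.homMk κ (by simp [A, B, Category.assoc]) : Over.mk ((κ ≫ b) ≫ f j) ⟶ Over.mk (b ≫ f j))
    have h1 : ρ (κ ≫ b) t' (k ≫ β) (lift_comp hk hβ) ≫ Gm kk = k ≫ ρ b t β hβ := by
      refine fac_unique hp (l B) (g := κ) (lift_id_comp (hρ _ _ _ _) (hGm kk))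
        (lift_comp_id hk (hρ _ _ _ _)) ?_
      have qB : b ≫ f j = a B ≫ f (i B) := (e B).symm
      have qA : (κ ≫ b) ≫ f j = a A ≫ f (i A) := (e A).symm
      have hqB : ρ b t β hβ ≫ l B = m b (a B) qB t β hβ := hρ' b t β hβ qB
      have hqG : Gm kk ≫ l B = m (a A) (κ ≫ a B) (ee kk) (G A) (l A) (hl A) := hGm' kk (ee kk)
      refine (Category.assoc _ _ _).trans (Eq.trans ?_ (Category.assoc _ _ _).symm)
      rw [hqB, hqG]
      have := m_nat b (a B) qB κ t t' β hβ k hk (by rw [Category.assoc, Category.assoc, qB])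
      rw [← this]
      have h3 := m_nat (a A) (κ ≫ a B) (ee kk) (𝟙 T') (G A) t' (l A) (hl A)
        (ρ (κ ≫ b) t' (k ≫ β) (lift_comp hk hβ)) (hρ _ _ _ _)
        (by rw [Category.id_comp, Category.id_comp]; exact ee kk)
      refine h3.symm.trans ?_
      have h4 := m_comp (κ ≫ b) (a A) (κ ≫ a B) qA (ee kk) t' (k ≫ β) (lift_comp hk hβ)
      refine Eq.trans ?_ h4
      refine m_congr _ _ _ _ _ _ _ _ _ _ _ (Category.id_comp _) (Category.id_comp _) ?_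
      exact hρ' _ _ _ _ qA
    have h2 : Gm kk ≫ ε.inv.toNatTrans.app B = ε.inv.toNatTrans.app A ≫ Z.map kk.hom :=
      ε.inv.toNatTrans.naturality kk
    change ρ (κ ≫ b) t' (k ≫ β) (lift_comp hk hβ) ≫ ε.inv.toNatTrans.app A ≫ Z.map _ =
      k ≫ ρ b t β hβ ≫ ε.inv.toNatTrans.app B ≫ Z.map _
    have h5 : (Over.homMk ((κ ≫ b) ≫ f j) (Category.comp_id _) : Over.mk ((κ ≫ b) ≫ f j) ⟶ J) =
        kk.hom ≫ (Over.homMk (b ≫ f j) (Category.comp_id _) : Over.mk (b ≫ f j) ⟶ J) := by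
      apply Over.OverMorphism.ext
      change (κ ≫ b) ≫ f j = κ ≫ b ≫ f j
      rw [Category.assoc]
    have h6 : Z.map (kk.hom ≫ (Over.homMk (b ≫ f j) (Category.comp_id _) : Over.mk (b ≫ f j) ⟶ J)) =
      Z.map kk.hom ≫ Z.map (Over.homMk (b ≫ f j) (Category.comp_id _) : Over.mk (b ≫ f j) ⟶ J) :=
      Z.map_comp _ _
    rw [h5, h6]
    generalize Z.map (Over.homMk (b ≫ f j) (Category.comp_id _) : Over.mk (b ≫ f j) ⟶ J) = zz
    generalize ρ (κ ≫ b) t' (k ≫ β) (lift_comp hk hβ) = ρ₁ at h1 ⊢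
    calc ρ₁ ≫ ε.inv.toNatTrans.app A ≫ Z.map kk.hom ≫ zz =
        ρ₁ ≫ (ε.inv.toNatTrans.app A ≫ Z.map kk.hom) ≫ zz := by
          refine congrArg (fun q => ρ₁ ≫ q) (Category.assoc _ _ _).symm
      _ = ρ₁ ≫ (Gm kk ≫ ε.inv.toNatTrans.app B) ≫ zz := by rw [h2]
      _ = (ρ₁ ≫ Gm kk) ≫ ε.inv.toNatTrans.app B ≫ zz := by
          refine Eq.trans ?_ (Category.assoc _ _ _).symm
          exact congrArg (fun q => ρ₁ ≫ q) (Category.assoc _ _ _)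
      _ = (k ≫ ρ b t β hβ) ≫ ε.inv.toNatTrans.app B ≫ zz := by rw [h1]
      _ = k ≫ ρ b t β hβ ≫ ε.inv.toNatTrans.app B ≫ zz := Category.assoc _ _ _
  refine ⟨Z.obj J, Z.w_obj J, fun j => toZ (𝟙 (V j)) (x j) (𝟙 (x j)) (lift_id (hx j)), ?_, ?_⟩
  · intro j
    have := toZ_lift (𝟙 (V j)) (x j) (𝟙 (x j)) (lift_id (hx j))
    rwa [Category.id_comp] at this
  · intro j j' T b c e' t β hβ
    have toZ_congr : ∀ {j : I} (b b' : T ⟶ V j) (β β' : t ⟶ x j) (hβ : 𝒳.p.IsHomLift b β)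
        (hβ' : 𝒳.p.IsHomLift b' β') (_ : b = b') (_ : β = β'), toZ b t β hβ = toZ b' t β' hβ' := by
      intro j b b' β β' hβ hβ' h1 h2
      subst h1; subst h2; rfl
    have e1 : toZ c t (m b c e' t β hβ) (m_lift b c e' t β hβ) =
        m b c e' t β hβ ≫ toZ (𝟙 (V j')) (x j') (𝟙 (x j')) (lift_id (hx j')) := by
      rw [← toZ_nat (𝟙 (V j')) c (x j') t (𝟙 (x j')) (lift_id (hx j')) (m b c e' t β hβ)
        (m_lift b c e' t β hβ)]
      exact toZ_congr _ _ _ _ _ _ (Category.comp_id _).symm (Category.comp_id _).symm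
    have e2 : toZ b t β hβ = β ≫ toZ (𝟙 (V j)) (x j) (𝟙 (x j)) (lift_id (hx j)) := by
      rw [← toZ_nat (𝟙 (V j)) b (x j) t (𝟙 (x j)) (lift_id (hx j)) β hβ]
      exact toZ_congr _ _ _ _ _ _ (Category.comp_id _).symm (Category.comp_id _).symm
    rw [← e1, ← e2]
    exact toZ_m b c e' t β hβ

end Obj

end K863.Glue
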