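import Groth.Agent.IsoNat.K863.Rel

/-!
# Characterisation of the objects glued from `η` by `(1, a)`: `K(η)`, and comparison in the abelian case
-/

set_option autoImplicit false
set_option backward.isDefEq.respectTransparency false
set_option backward.isDefEq.respectTransparency.types false

universe u

open CategoryTheory CategoryTheory.Limits AlgebraicGeometry Opposite

namespace K863.KSet

open K863.Arr K863.Frame K863.Rel K864.Prd K864.Cross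

variable {S : Scheme.{u}} {𝒳 : AlgSt.Cat S}

/-- `F` is equal to `η` after pullback along `k : Z ⟶ D`. -/
def Agr (hp : FibCat.IsFibGrpd 𝒳.p) {T : Over S} (η : 𝒳.p.Fiber T) {Z D : Scheme.{u}} (k : Z ⟶ D)
    (F : 𝒳.obj) : Prop :=
  ∃ β : (E hp η Z).1 ⟶ F, 𝒳.p.IsHomLift (mapR T k) β

/-- `F` restricted to the two copies of the cross, and to the two doubled branches, is `η`. -/
structure K (hp : FibCat.IsFibGrpd 𝒳.p) {T : Over S} (η : 𝒳.p.Fiber T) (F : 𝒳.obj) : Prop where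
  a₁ : Agr hp η i₁.{u} F
  a₂ : Agr hp η i₂.{u} F
  c₁ : Agr hp η dB₁.{u} F
  c₂ : Agr hp η dB₂.{u} F

section

variable (hp : FibCat.IsFibGrpd 𝒳.p) {T : Over S} {η : 𝒳.p.Fiber T}

/-- Claim B: an object satisfying `K(η)` is glued by some `(1, a)`. -/
theorem K.exists_R {F : 𝒳.obj} (h : K hp η F) : ∃ a : η ⟶ η, R hp η i₁.{u} i₂ a F := by
  obtain ⟨⟨ζ₁, l₁⟩, ⟨ζ₂, l₂⟩, ⟨β₁, lβ₁⟩, ⟨β₂, lβ₂⟩⟩ := h
  have hj : m hp η jGm.{u} ≫ m hp η e₁ = m hp η jGm ≫ m hp η e₂ := by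
    rw [← m_comp, ← m_comp, isPullback_DB.{u}.w]
  -- first branch
  have lω₁ : 𝒳.p.IsHomLift (mapR T (b₁.{u} ≫ i₁)) (m hp η e₁ ≫ β₁) :=
    lift_comp' (m_lift hp η _) lβ₁ (by rw [← mapR_comp, e₁_dB₁])
  have lω₂ : 𝒳.p.IsHomLift (mapR T (b₁.{u} ≫ i₂)) (m hp η e₂ ≫ β₁) :=
    lift_comp' (m_lift hp η _) lβ₁ (by rw [← mapR_comp, e₂_dB₁])
  have lb₁ : 𝒳.p.IsHomLift (mapR T (b₁.{u} ≫ i₁)) (m hp η b₁ ≫ ζ₁) :=
    lift_comp' (m_lift hp η _) l₁ (mapR_comp _ _ _).symm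
  have lb₂ : 𝒳.p.IsHomLift (mapR T (b₁.{u} ≫ i₂)) (m hp η b₁ ≫ ζ₂) :=
    lift_comp' (m_lift hp η _) l₂ (mapR_comp _ _ _).symm
  obtain ⟨h₁, e1⟩ := exists_diff lb₁ lω₁
  obtain ⟨h₂, e2⟩ := exists_diff lb₂ lω₂
  have fac1 : ∀ (h : E hp η A1.{u} ⟶ E hp η A1), m hp η b₁ ≫ (r hp η r₁ h).1 = h.1 ≫ m hp η b₁ := by
    intro h
    rw [← r_fac, r_comp, b₁_r₁, r_id]
  let ξ₁ := (r hp η r₁ h₁).1 ≫ ζ₁
  let ξ₂ := (r hp η r₁ h₂).1 ≫ ζ₂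
  have lξ₁ : 𝒳.p.IsHomLift (mapR T i₁.{u}) ξ₁ := lift_id_comp (r hp η r₁ h₁).2 l₁
  have lξ₂ : 𝒳.p.IsHomLift (mapR T i₂.{u}) ξ₂ := lift_id_comp (r hp η r₁ h₂).2 l₂
  have b1 : m hp η b₁ ≫ ξ₁ = m hp η e₁ ≫ β₁ := by
    rw [← e1]
    change m hp η b₁ ≫ (r hp η r₁ h₁).1 ≫ ζ₁ = _
    rw [← Category.assoc, fac1, Category.assoc]
  have b2 : m hp η b₁ ≫ ξ₂ = m hp η e₂ ≫ β₁ := by
    rw [← e2]
    change m hp η b₁ ≫ (r hp η r₁ h₂).1 ≫ ζ₂ = _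
    rw [← Category.assoc, fac1, Category.assoc]
  clear_value ξ₁ ξ₂
  clear e1 e2 fac1 lb₁ lb₂ h₁ h₂ l₁ l₂ ζ₁ ζ₂
  -- second branch
  have lω₁' : 𝒳.p.IsHomLift (mapR T (b₂.{u} ≫ i₁)) (m hp η e₁ ≫ β₂) :=
    lift_comp' (m_lift hp η _) lβ₂ (by rw [← mapR_comp, e₁_dB₂])
  have lω₂' : 𝒳.p.IsHomLift (mapR T (b₂.{u} ≫ i₂)) (m hp η e₂ ≫ β₂) :=
    lift_comp' (m_lift hp η _) lβ₂ (by rw [← mapR_comp, e₂_dB₂])
  have lb₁ : 𝒳.p.IsHomLift (mapR T (b₂.{u} ≫ i₁)) (m hp η b₂ ≫ ξ₁) :=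
    lift_comp' (m_lift hp η _) lξ₁ (mapR_comp _ _ _).symm
  have lb₂ : 𝒳.p.IsHomLift (mapR T (b₂.{u} ≫ i₂)) (m hp η b₂ ≫ ξ₂) :=
    lift_comp' (m_lift hp η _) lξ₂ (mapR_comp _ _ _).symm
  obtain ⟨h₁, e1⟩ := exists_diff lb₁ lω₁'
  obtain ⟨h₂, e2⟩ := exists_diff lb₂ lω₂'
  have fac2 : ∀ (h : E hp η A1.{u} ⟶ E hp η A1), m hp η b₂ ≫ (r hp η r₂ h).1 = h.1 ≫ m hp η b₂ := by
    intro h
    rw [← r_fac, r_comp, b₂_r₂, r_id]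
  obtain ⟨a₁, ha₁⟩ := c_pt_surj hp η (r hp η zero h₁)
  obtain ⟨a₂, ha₂⟩ := c_pt_surj hp η (r hp η zero h₂)
  have fac3 : ∀ (h : E hp η A1.{u} ⟶ E hp η A1) (a : η ⟶ η), c hp η pt a = r hp η zero h →
      m hp η b₁ ≫ (r hp η r₂ h).1 = (c hp η A1 a).1 ≫ m hp η b₁ := by
    intro h a ha
    rw [← r_fac, r_comp, b₁_r₂, ← r_comp, ← ha, r_c]
  obtain ⟨q₁, hq₁, hq₁'⟩ := exists_inv hp a₁
  obtain ⟨q₂, hq₂, hq₂'⟩ := exists_inv hp a₂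
  -- final frames
  have main : ∀ (h : E hp η A1.{u} ⟶ E hp η A1) (a q : η ⟶ η) (_ : c hp η pt a = r hp η zero h)
      (_ : q ≫ a = 𝟙 _) (ξ : (E hp η Cr.{u}).1 ⟶ F),
      m hp η b₁ ≫ (c hp η Cr q).1 ≫ (r hp η r₂ h).1 ≫ ξ = m hp η b₁ ≫ ξ ∧
      m hp η b₂ ≫ (c hp η Cr q).1 ≫ (r hp η r₂ h).1 ≫ ξ = (c hp η A1 q).1 ≫ h.1 ≫ m hp η b₂ ≫ ξ := by
    intro h a q ha hqa ξ
    constructor
    · have e3 : m hp η b₁.{u} ≫ (c hp η Cr q).1 ≫ (r hp η r₂ h).1 = m hp η b₁ := by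
        rw [← Category.assoc, ← c_m, Category.assoc, fac3 h a ha, ← Category.assoc, ← comp_val,
          ← c_mul, hqa, c_one, id_val, Category.id_comp]
      have := congrArg (fun w => w ≫ ξ) e3
      simpa only [Category.assoc] using this
    · have e3 : m hp η b₂.{u} ≫ (c hp η Cr q).1 ≫ (r hp η r₂ h).1 =
          (c hp η A1 q).1 ≫ h.1 ≫ m hp η b₂ := by
        rw [← Category.assoc, ← c_m, Category.assoc, fac2 h]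
      have := congrArg (fun w => w ≫ ξ) e3
      simpa only [Category.assoc] using this
  obtain ⟨u1, u2⟩ := main h₁ a₁ q₁ ha₁ hq₁' ξ₁
  obtain ⟨u1', u2'⟩ := main h₂ a₂ q₂ ha₂ hq₂' ξ₂
  refine ⟨q₂ ≫ a₁, (c hp η Cr q₁).1 ≫ (r hp η r₂ h₁).1 ≫ ξ₁,
    (c hp η Cr q₂).1 ≫ (r hp η r₂ h₂).1 ≫ ξ₂,
    lift_id_comp (c hp η Cr q₁).2 (lift_id_comp (r hp η r₂ h₁).2 lξ₁),
    lift_id_comp (c hp η Cr q₂).2 (lift_id_comp (r hp η r₂ h₂).2 lξ₂), ?_, ?_⟩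
  · change m hp η (jGm ≫ b₁) ≫ _ = m hp η (jGm ≫ b₁) ≫ _
    rw [m_comp, Category.assoc, Category.assoc, u1, u1', b1, b2, ← Category.assoc, hj,
      Category.assoc]
  · change m hp η (jGm ≫ b₂) ≫ _ = m hp η (jGm ≫ b₂) ≫ _
    rw [e1] at u2
    rw [e2] at u2'
    have hjc : ∀ (q : η ⟶ η), m hp η jGm ≫ (c hp η A1 q).1 = (c hp η Gm q).1 ≫ m hp η jGm :=
      fun q => (c_m hp η jGm q).symm
    rw [← Category.assoc (m hp η (jGm ≫ b₂)), ← c_m, Category.assoc, m_comp, Category.assoc, u2,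
      Category.assoc, u2', ← Category.assoc (m hp η jGm), hjc, ← Category.assoc (m hp η jGm), hjc,
      Category.assoc, Category.assoc, ← Category.assoc (m hp η jGm), hj, Category.assoc,
      ← Category.assoc, ← comp_val, ← c_mul, Category.assoc, hq₁, Category.comp_id]

end

section

variable (hst : Stk.IsStack (AlgSp.J S) 𝒳) {T : Over S} {η : 𝒳.p.Fiber T}

/-- Claim E: an object glued by `(1, a)` satisfies `K(η)`. -/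
theorem K_of_R {a : η ⟶ η} {F : 𝒳.obj} (h : R hst.1 η i₁.{u} i₂ a F) : K hst.1 η F := by
  have hp := hst.1
  obtain ⟨ζ₁, ζ₂, h⟩ := h
  have pair := openPair (T := T) isPullback_DB.{u} exists_e
  have hj : m hp η jGm.{u} ≫ m hp η e₁ = m hp η jGm ≫ m hp η e₂ := by
    rw [← m_comp, ← m_comp, isPullback_DB.{u}.w]
  refine ⟨⟨ζ₁, h.lift₁⟩, ⟨ζ₂, h.lift₂⟩, ?_, ?_⟩
  · obtain ⟨β, hβ, -, -⟩ := Pair.exists_hom hst pair (m_lift hp η jGm) (m_lift hp η jGm)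
      (m_lift hp η e₁) (m_lift hp η e₂) hj (g := mapR T dB₁.{u}) (γ₁ := m hp η b₁ ≫ ζ₁)
      (γ₂ := m hp η b₁ ≫ ζ₂)
      (lift_comp' (m_lift hp η b₁) h.lift₁ (by rw [← mapR_comp, ← mapR_comp, e₁_dB₁]))
      (lift_comp' (m_lift hp η b₁) h.lift₂ (by rw [← mapR_comp, ← mapR_comp, e₂_dB₁]))
      (by rw [← Category.assoc, ← Category.assoc, ← m_comp]; exact h.e₁)
    exact ⟨β, hβ⟩
  · obtain ⟨β, hβ, -, -⟩ := Pair.exists_hom hst pair (m_lift hp η jGm) (m_lift hp η jGm)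
      (m_lift hp η e₁) (m_lift hp η e₂) hj (g := mapR T dB₂.{u})
      (γ₁ := m hp η b₂ ≫ (c hp η Cr a).1 ≫ ζ₁) (γ₂ := m hp η b₂ ≫ ζ₂)
      (lift_comp' (m_lift hp η b₂) (lift_id_comp (c hp η Cr a).2 h.lift₁)
        (by rw [← mapR_comp, ← mapR_comp, e₁_dB₂]))
      (lift_comp' (m_lift hp η b₂) h.lift₂ (by rw [← mapR_comp, ← mapR_comp, e₂_dB₂]))
      (by
        have e : m hp η (jGm ≫ b₂) ≫ (c hp η Cr a).1 ≫ ζ₁ = m hp η (jGm ≫ b₂) ≫ ζ₂ := h.e₂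
        rw [m_comp, Category.assoc, Category.assoc] at e
        exact e)
    exact ⟨β, hβ⟩

/-- Statement (M): in the abelian case an object over the tripled cross, locally equal to `η`, is determined by
its restrictions along `d₁₂` and `d₁₃`. -/
theorem iso_of_agree (hab : ∀ (Z : Scheme.{u}) (h k : E hst.1 η Z ⟶ E hst.1 η Z), h ≫ k = k ≫ h)
    {F F' : 𝒳.obj} {ζ₁ ζ₃ : (E hst.1 η Cr.{u}).1 ⟶ F}
    (l₁ : 𝒳.p.IsHomLift (mapR T (i₁.{u} ≫ d₁₂)) ζ₁)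
    (l₃ : 𝒳.p.IsHomLift (mapR T i₃.{u}) ζ₃)
    {G G' : 𝒳.obj} {γ : G ⟶ F} {γ' : G ⟶ F'} {δ : G' ⟶ F} {δ' : G' ⟶ F'}
    (hγ : 𝒳.p.IsHomLift (mapR T d₁₂.{u}) γ) (hγ' : 𝒳.p.IsHomLift (mapR T d₁₂.{u}) γ')
    (hδ : 𝒳.p.IsHomLift (mapR T d₁₃.{u}) δ) (hδ' : 𝒳.p.IsHomLift (mapR T d₁₃.{u}) δ') :
    ∃ φ : F ⟶ F', 𝒳.p.IsHomLift (𝟙 (prd T D3.{u})) φ := by
  have hp := hst.1
  -- frames of G and G'
  obtain ⟨ξ₁, lξ₁, eξ₁⟩ := exists_fac hp hγ l₁ (mapR_comp T i₁ d₁₂).symm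
  obtain ⟨π₁, lπ₁, eπ₁⟩ := exists_fac hp hδ l₁ (g := mapR T i₁.{u}) (by rw [← mapR_comp, i₁_d₁₃])
  obtain ⟨π₃, lπ₃, eπ₃⟩ := exists_fac hp hδ l₃ (g := mapR T i₂.{u}) (by rw [← mapR_comp, i₂_d₁₃])
  -- the transition between copies 1 and 3
  have lV₁ : 𝒳.p.IsHomLift (mapR T (V.{u}.ι ≫ i₁ ≫ d₁₂)) (m hp η V.ι ≫ ζ₁) :=
    lift_comp' (m_lift hp η _) l₁ (mapR_comp _ _ _).symm
  have lV₃ : 𝒳.p.IsHomLift (mapR T (V.{u}.ι ≫ i₁ ≫ d₁₂)) (m hp η V.ι ≫ ζ₃) :=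
    lift_comp' (m_lift hp η _) l₃ (by rw [← mapR_comp, cond13])
  obtain ⟨g, hg⟩ := exists_diff lV₁ lV₃
  -- in G'
  have hg' : g.1 ≫ m hp η V.ι ≫ π₁ = m hp η V.ι ≫ π₃ := by
    refine fac_unique hp δ (g := mapR T (V.{u}.ι ≫ i₁))
      (lift_id_comp g.2 (lift_comp' (m_lift hp η _) lπ₁ (mapR_comp _ _ _).symm))
      (lift_comp' (m_lift hp η _) lπ₃ (by rw [← mapR_comp, isPullback_D2.{u}.w])) ?_
    rw [Category.assoc, Category.assoc, Category.assoc, eπ₁, eπ₃]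
    exact hg
  -- the frames of F'
  have l1 : 𝒳.p.IsHomLift (mapR T (i₁.{u} ≫ d₁₂)) (ξ₁ ≫ γ') :=
    lift_comp' lξ₁ hγ' (mapR_comp _ _ _).symm
  have l2 : 𝒳.p.IsHomLift (mapR T (i₁.{u} ≫ d₁₂)) (π₁ ≫ δ') :=
    lift_comp' lπ₁ hδ' (by rw [← mapR_comp, i₁_d₁₃])
  have l3 : 𝒳.p.IsHomLift (mapR T i₃.{u}) (π₃ ≫ δ') :=
    lift_comp' lπ₃ hδ' (by rw [← mapR_comp, i₂_d₁₃])
  obtain ⟨h, eh⟩ := exists_diff l1 l2
  obtain ⟨k, hk, hk'⟩ := exists_inv hp h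
  let ζ₃' := k.1 ≫ π₃ ≫ δ'
  have l3' : 𝒳.p.IsHomLift (mapR T i₃.{u}) ζ₃' := lift_id_comp k.2 l3
  have key : g.1 ≫ m hp η V.ι ≫ ξ₁ ≫ γ' = m hp η V.ι ≫ ζ₃' := by
    change _ = m hp η V.ι ≫ k.1 ≫ π₃ ≫ δ'
    rw [← Category.assoc (m hp η V.ι) k.1, ← r_fac, Category.assoc]
    have e1 : m hp η V.ι ≫ π₃ ≫ δ' = g.1 ≫ m hp η V.ι ≫ π₁ ≫ δ' := by
      have := congrArg (fun q => q ≫ δ') hg'
      simpa only [Category.assoc] using this.symm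
    rw [e1, ← eh, ← Category.assoc (m hp η V.ι) h.1, ← r_fac, Category.assoc]
    have e2 : (r hp η V.{u}.ι k).1 ≫ g.1 ≫ (r hp η V.ι h).1 = g.1 := by
      rw [← comp_val, ← comp_val, ← Category.assoc, hab, ← Category.assoc, ← r_mul, hk, r_one,
        Category.id_comp]
    have e3 : (r hp η V.{u}.ι k).1 ≫ g.1 ≫ (r hp η V.ι h).1 ≫ m hp η V.ι ≫ ξ₁ ≫ γ' =
        ((r hp η V.ι k).1 ≫ g.1 ≫ (r hp η V.ι h).1) ≫ m hp η V.ι ≫ ξ₁ ≫ γ' := by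
      simp only [Category.assoc]
    rw [e3, e2]
  obtain ⟨φ, hφ, -, -⟩ := Pair.exists_hom hst (openPair (T := T) isPullback_D3.{u} exists_d)
    (α₁ := g.1 ≫ m hp η V.ι ≫ ξ₁) (α₂ := m hp η V.ι)
    (lift_id_comp g.2 (lift_comp' (m_lift hp η _) lξ₁ (mapR_comp _ _ _).symm)) (m_lift hp η _)
    hγ l₃ (by rw [Category.assoc, Category.assoc, eξ₁]; exact hg) (g := 𝟙 _) (γ₁ := γ') (γ₂ := ζ₃')
    (by rw [Category.comp_id]; exact hγ') (by rw [Category.comp_id]; exact l3')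
    (by rw [Category.assoc, Category.assoc]; exact key)
  exact ⟨φ, hφ⟩

/-- Statement (N): if the objects over the tripled cross glued from `(s, 1)` and from `(s, b)` are isomorphic then
`b = 1`. -/
theorem eq_one_of_iso (hd : AlgSt.RepByAlgSpWith (AlgSp.IsSeparatedMor ⊓ AlgSp.IsQuasiCompactMor)
      (FibCat.diag (FibCat.toSelf 𝒳))) {a a' b b' : η ⟶ η} {F F' : 𝒳.obj}
    {ζ₁ ζ₂ ζ₃ : (E hst.1 η Cr.{u}).1 ⟶ F} {ζ₁' ζ₂' ζ₃' : (E hst.1 η Cr.{u}).1 ⟶ F'}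
    (h12 : RelF hst.1 η (i₁ ≫ d₁₂) (i₂ ≫ d₁₂) a ζ₁ ζ₂) (h23 : RelF hst.1 η (i₂ ≫ d₁₂) i₃ b ζ₂ ζ₃)
    (h12' : RelF hst.1 η (i₁ ≫ d₁₂) (i₂ ≫ d₁₂) a' ζ₁' ζ₂')
    (h23' : RelF hst.1 η (i₂ ≫ d₁₂) i₃ b' ζ₂' ζ₃') {φ : F ⟶ F'}
    (hφ : 𝒳.p.IsHomLift (𝟙 (prd T D3.{u})) φ) :
    ∃ t : η ⟶ η, a' ≫ t = t ≫ a ∧ b' ≫ t = t ≫ b := by
  have hp := hst.1
  have q12 := h12.iso φ hφ
  have q23 := h23.iso φ hφ
  obtain ⟨k₁, e1⟩ := exists_diff q12.lift₁ h12'.lift₁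
  obtain ⟨k₂, e2⟩ := exists_diff q12.lift₂ h12'.lift₂
  obtain ⟨k₃, e3⟩ := exists_diff q23.lift₂ h23'.lift₂
  obtain ⟨t₁, ht₁⟩ := c_pt_surj hp η (r hp η o k₁)
  obtain ⟨t₂, ht₂⟩ := c_pt_surj hp η (r hp η o k₂)
  obtain ⟨t₃, ht₃⟩ := c_pt_surj hp η (r hp η o k₃)
  obtain ⟨u1, u2⟩ := q12.uniq hp hd h12' e1 e2 ht₁ ht₂
  obtain ⟨u3, u4⟩ := q23.uniq hp hd h23' e2 e3 ht₂ ht₃
  subst u1
  exact ⟨t₁, u2, u4⟩

end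

end K863.KSet
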