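import Groth.Agent.IsoNat.K863.QC
import Groth.Agent.AlgSt.K743.FpChart
import Groth.Agent.AlgSt.K742.SmComp
import Groth.Agent.AlgSt.K745.Refine
import Groth.Agent.AlgSt.K739.Alg

/-!
# A locally Noetherian atlas of `𝒳 ×_𝒴 𝒳` for `𝒳 ⟶ 𝒴` locally of finite type with locally Noetherian target
-/

set_option autoImplicit false
set_option backward.isDefEq.respectTransparency false
set_option backward.isDefEq.respectTransparency.types false

universe u

open CategoryTheory CategoryTheory.Limits AlgebraicGeometry Opposite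

namespace K863.NoethAtlas

open AlgSt

variable {S : Scheme.{u}}

theorem exists_atlas {𝒳 𝒴 : AlgSt.Cat S} (h𝒳 : IsAlgStack Scheme.fppfPrecoverage 𝒳)
    (h𝒴 : IsAlgStack Scheme.fppfPrecoverage 𝒴) (f : 𝒳 ⥤ᵇ 𝒴)
    (hft : LocQ (AlgSp.LocP @LocallyOfFiniteType) f)
    (hN : SmoothLocally (fun X => IsLocallyNoetherian X) 𝒴) :
    ∃ (W : Over S) (ω : FibCat.overCat W ⥤ᵇ FibCat.fp f f), IsLocallyNoetherian W.left ∧
      RepByAlgSpWith (AlgSp.LocP @Smooth) ω ∧ RepByAlgSpWith AlgSp.IsSurjectiveMor ω := by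
  obtain ⟨U, V, x, y, h, i, hx, hxs, hy, hh⟩ := hft
  have hV : IsLocallyNoetherian V.left := hN V y hy
  have hh' : LocallyOfFiniteType h.left := AlgSp.locP_yon_map hh
  have hU : IsLocallyNoetherian U.left := LocallyOfFiniteType.isLocallyNoetherian h.left
  have hg𝒳 := h𝒳.isStack.1
  have hg𝒴 := h𝒴.isStack.1
  -- the composite `U ⟶ 𝒳 ⟶ 𝒴` is locally of finite type
  have hy' : RepByAlgSpWith (AlgSp.LocP @LocallyOfFiniteType) y :=
    K739.Alg.repByAlgSpWith_mono (fun _ _ _ hf => K597.locP_mono (fun _ _ g (hg : Smooth g) =>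
      (inferInstance : LocallyOfFiniteType g)) hf) hy
  have hv : RepByAlgSpWith (AlgSp.LocP @LocallyOfFiniteType) (BasedFunctor.comp x f) :=
    K735.Rep.repByAlgSpWith_of_iso _ i.symm (K743.Comp.locP_overMap_comp K597.etLoc_lft h hh' y hy')
  obtain ⟨W, s, r, ω, hω, -, -, hs, -, hpts⟩ := K743.FpChart.exists_chart_fp K597.etLoc_smooth
    (fun _ _ g (hg : Etale g) => (inferInstance : Smooth g)) hg𝒳 hg𝒴 f x hx (BasedFunctor.comp x f) hv
  have hs' : LocallyOfFiniteType s.left := hs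
  have hW : IsLocallyNoetherian W.left := LocallyOfFiniteType.isLocallyNoetherian s.left
  have hUst := (K744.AlgOver.isAlgStack_overCat U).isStack.1
  have hWst := (K744.AlgOver.isAlgStack_overCat W).isStack.1
  have hfp : FibCat.IsFibGrpd (FibCat.fp f f).p := K735.Fp.isFibGrpd_fp hg𝒳 hg𝒳 hg𝒴 f f
  have hfpU : FibCat.IsFibGrpd (FibCat.fp (BasedFunctor.comp x f) f).p :=
    K735.Fp.isFibGrpd_fp hUst hg𝒳 hg𝒴 _ f
  have hsm : RepByAlgSpWith (AlgSp.LocP @Smooth) (BasedFunctor.comp ω (K734.Fib.fpPreL x f f)) :=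
    K742.SmComp.smooth_comp hWst hfpU ω _ hω (K734.Rep.repByAlgSpWith_fpPreL f f hx)
  refine ⟨W, BasedFunctor.comp ω (K734.Fib.fpPreL x f f), hW, hsm, ?_⟩
  rw [← K735.Top.repByAlgSpWith_surjective_iff hfp hWst (K739.Alg.repByAlgSp1_of hsm)]
  have h1 : Function.Surjective (Points.map (K734.Fib.fpPreL x f f)) :=
    K735.Top.surjective_of_repByAlgSpWith hfp hfpU (K734.Rep.repByAlgSpWith_fpPreL f f hxs)
  have h2 : Function.Surjective (Points.map x) := K735.Top.surjective_of_repByAlgSpWith hg𝒳 hUst hxs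
  intro z
  obtain ⟨w, rfl⟩ := h1 z
  obtain ⟨v, rfl⟩ := hpts w (h2 _)
  exact ⟨v, K735.Pts.map_comp _ _ _⟩

end K863.NoethAtlas
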