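import Groth.Agent.IsoNat.K863.Glue

/-!
# Gluing of morphisms and objects of a stack over two opens of a scheme
-/

set_option autoImplicit false
set_option backward.isDefEq.respectTransparency false
set_option backward.isDefEq.respectTransparency.types false

universe w v₂ u₂ u

open CategoryTheory CategoryTheory.Limits AlgebraicGeometry

namespace K863.Pair

open K863.Arr K863.Glue

variable {S : Scheme.{u}}

/-- A jointly surjective family of flat morphisms locally of finite presentation generates a covering sieve. -/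
theorem ofArrows_mem {I : Type w} {U : Over S} {V : I → Over S} (f : ∀ i, V i ⟶ U)
    (hf : ∀ i, Flat (f i).left ∧ LocallyOfFinitePresentation (f i).left)
    (hs : ∀ x : U.left, ∃ i, x ∈ Set.range (f i).left) : Sieve.ofArrows V f ∈ AlgSp.J S U := by
  rw [GrothendieckTopology.mem_over_iff]
  have h1 : (Presieve.ofArrows (fun i => (V i).left) (fun i => (f i).left)) ∈
      Scheme.fppfPrecoverage U.left :=
    (Scheme.ofArrows_mem_precoverage_iff _).2 ⟨hs, fun i => hf i⟩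
  refine GrothendieckTopology.superset_covering _ ?_ (Precoverage.generate_mem_toGrothendieck h1)
  rw [Sieve.generate_le_iff]
  rintro Y g ⟨i⟩
  exact ⟨V i, f i, 𝟙 _, Sieve.ofArrows_mk _ _ _, (Category.id_comp _).symm⟩

/-- A jointly surjective family of open immersions generates a covering sieve. -/
theorem ofArrows_mem_open {I : Type w} {U : Over S} {V : I → Over S} (f : ∀ i, V i ⟶ U)
    (hf : ∀ i, IsOpenImmersion (f i).left)
    (hs : ∀ x : U.left, ∃ i, x ∈ Set.range (f i).left) : Sieve.ofArrows V f ∈ AlgSp.J S U :=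
  ofArrows_mem f (fun i => by
    have := hf i
    exact ⟨inferInstance, inferInstance⟩) hs

/-- Two opens `U₁, U₂` of `U` covering `U`, with intersection `U₁₂`. -/
structure IsOpenPair {U U₁ U₂ U₁₂ : Over S} (j₁ : U₁ ⟶ U) (j₂ : U₂ ⟶ U) (p₁ : U₁₂ ⟶ U₁)
    (p₂ : U₁₂ ⟶ U₂) : Prop where
  open₁ : IsOpenImmersion j₁.left
  open₂ : IsOpenImmersion j₂.left
  cover : ∀ x : U.left, x ∈ Set.range j₁.left ∨ x ∈ Set.range j₂.left
  pb : IsPullback p₁ p₂ j₁ j₂

section Bool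

variable {U : Over S} {V : Bool → Over S} {V' : Over S} (f : ∀ i, V i ⟶ U) (q : ∀ i, V' ⟶ V i)

theorem mono_of_open {A B : Over S} (f : A ⟶ B) [IsOpenImmersion f.left] : Mono f := by
  have : Mono f.left := inferInstance
  exact Over.mono_of_mono_left f

/-- Lifting to the intersection, uniform form. -/
theorem bool_lift (pb : IsPullback (q true) (q false) (f true) (f false))
    {T : Over S} {i j : Bool} (a : T ⟶ V i) (b : T ⟶ V j) (e : a ≫ f i = b ≫ f j) (hij : i ≠ j) :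
    ∃ c : T ⟶ V', c ≫ q i = a ∧ c ≫ q j = b := by
  cases i <;> cases j <;> simp only [ne_eq, not_true_eq_false, reduceCtorEq, not_false_eq_true] at hij
  · exact ⟨pb.lift b a e.symm, pb.lift_snd _ _ _, pb.lift_fst _ _ _⟩
  · exact ⟨pb.lift a b e, pb.lift_fst _ _ _, pb.lift_snd _ _ _⟩

theorem bool_aux (i j l : Bool) (h : i ≠ j) (h' : l ≠ i) : l = j := by
  revert i j l; decide

theorem bool_aux' (i j l : Bool) (h : i ≠ j) (h' : j ≠ l) : i = l := by
  revert i j l; decide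

theorem bool_hom_ext (pb : IsPullback (q true) (q false) (f true) (f false))
    {T : Over S} {c c' : T ⟶ V'} (h : ∀ i, c ≫ q i = c' ≫ q i) : c = c' :=
  pb.hom_ext (h true) (h false)

end Bool

section Hom

variable {𝒳 : BasedCategory.{v₂, u₂} (Over S)} {U U₁ U₂ U₁₂ : Over S} {j₁ : U₁ ⟶ U} {j₂ : U₂ ⟶ U}
  {p₁ : U₁₂ ⟶ U₁} {p₂ : U₁₂ ⟶ U₂}

theorem pair_mem (h : IsOpenPair j₁ j₂ p₁ p₂) :
    Sieve.ofArrows (fun b : Bool => bif b then U₁ else U₂)
      (fun b => match b with | true => j₁ | false => j₂) ∈ AlgSp.J S U :=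
  ofArrows_mem_open _ (fun i => by cases i; exacts [h.open₂, h.open₁]) (fun x => by
    rcases h.cover x with hx | hx
    · exact ⟨true, hx⟩
    · exact ⟨false, hx⟩)

theorem prestackFor (hst : Stk.IsStack (AlgSp.J S) 𝒳) {U : Over S} (R : Sieve U)
    (hR : R ∈ AlgSp.J S U) : Stk.IsPrestackFor R 𝒳 := by
  have := hst.2 R hR
  unfold Stk.IsStackFor at this
  exact ⟨inferInstance, inferInstance⟩

/-- Morphisms glue over two opens. -/
theorem exists_hom (hst : Stk.IsStack (AlgSp.J S) 𝒳) (h : IsOpenPair j₁ j₂ p₁ p₂)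
    {x₁ x₂ x₁₂ z w : 𝒳.obj} {α₁ : x₁₂ ⟶ x₁} {α₂ : x₁₂ ⟶ x₂} {ζ₁ : x₁ ⟶ z} {ζ₂ : x₂ ⟶ z}
    (hα₁ : 𝒳.p.IsHomLift p₁ α₁) (hα₂ : 𝒳.p.IsHomLift p₂ α₂) (hζ₁ : 𝒳.p.IsHomLift j₁ ζ₁)
    (hζ₂ : 𝒳.p.IsHomLift j₂ ζ₂) (comm : α₁ ≫ ζ₁ = α₂ ≫ ζ₂) {W : Over S} {g : U ⟶ W}
    {γ₁ : x₁ ⟶ w} {γ₂ : x₂ ⟶ w} (hγ₁ : 𝒳.p.IsHomLift (j₁ ≫ g) γ₁)
    (hγ₂ : 𝒳.p.IsHomLift (j₂ ≫ g) γ₂) (comm' : α₁ ≫ γ₁ = α₂ ≫ γ₂) :
    ∃ γ : z ⟶ w, 𝒳.p.IsHomLift g γ ∧ ζ₁ ≫ γ = γ₁ ∧ ζ₂ ≫ γ = γ₂ := by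
  have hp := hst.1
  have hm₁ := @mono_of_open _ _ _ j₁ h.open₁
  have hm₂ := @mono_of_open _ _ _ j₂ h.open₂
  -- the crossed case
  have cross : ∀ {T : Over S} (a : T ⟶ U₁) (b : T ⟶ U₂) (t : 𝒳.obj) (α : t ⟶ x₁) (β : t ⟶ x₂),
      𝒳.p.IsHomLift a α → 𝒳.p.IsHomLift b β → α ≫ ζ₁ = β ≫ ζ₂ → α ≫ γ₁ = β ≫ γ₂ := by
    intro T a b t α β hα hβ e
    have e1 : a ≫ j₁ = b ≫ j₂ :=
      base_unique (lift_comp hα hζ₁) (by rw [e]; exact lift_comp hβ hζ₂)
    obtain ⟨δ, hδ, hδ'⟩ := exists_fac hp hα₁ hα (h.pb.lift_fst a b e1)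
    have e2 : δ ≫ α₂ = β := by
      refine fac_unique hp ζ₂ (lift_comp' hδ hα₂ (h.pb.lift_snd a b e1)) hβ ?_
      rw [Category.assoc, ← comm, ← Category.assoc, hδ', e]
    rw [← hδ', ← e2, Category.assoc, Category.assoc, comm']
  obtain ⟨γ, h1, h2⟩ := exists_hom_fam hp _ (prestackFor hst _ (pair_mem h)) (cod hζ₁)
    (cod hγ₁) g (fun b : Bool => bif b then x₁ else x₂)
    (fun b => match b with | true => ζ₁ | false => ζ₂)
    (fun b => by cases b; exacts [hζ₂, hζ₁])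
    (fun b => match b with | true => γ₁ | false => γ₂)
    (fun b => by cases b; exacts [hγ₂, hγ₁])
    (by
      intro i j T a b t α β hα hβ e
      cases i <;> cases j
      · have e1 : a ≫ j₂ = b ≫ j₂ :=
          base_unique (lift_comp hα hζ₂) (by erw [e]; exact lift_comp hβ hζ₂)
        rw [cancel_mono] at e1
        subst e1
        exact congrArg (fun q => q ≫ γ₂) (fac_unique hp ζ₂ hα hβ e)
      · exact (cross b a t β α hβ hα e.symm).symm
      · exact cross a b t α β hα hβ e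
      · have e1 : a ≫ j₁ = b ≫ j₁ :=
          base_unique (lift_comp hα hζ₁) (by erw [e]; exact lift_comp hβ hζ₁)
        rw [cancel_mono] at e1
        subst e1
        exact congrArg (fun q => q ≫ γ₁) (fac_unique hp ζ₁ hα hβ e))
  exact ⟨γ, h1, h2 true, h2 false⟩

/-- Morphisms out of an object over `U` are determined by their restrictions to `U₁` and `U₂`. -/
theorem hom_unique (hst : Stk.IsStack (AlgSp.J S) 𝒳) (h : IsOpenPair j₁ j₂ p₁ p₂)
    {x₁ x₂ z w : 𝒳.obj} {ζ₁ : x₁ ⟶ z} {ζ₂ : x₂ ⟶ z}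
    (hζ₁ : 𝒳.p.IsHomLift j₁ ζ₁) (hζ₂ : 𝒳.p.IsHomLift j₂ ζ₂) {W : Over S} {g : U ⟶ W}
    {γ γ' : z ⟶ w} (hγ : 𝒳.p.IsHomLift g γ) (hγ' : 𝒳.p.IsHomLift g γ')
    (e₁ : ζ₁ ≫ γ = ζ₁ ≫ γ') (e₂ : ζ₂ ≫ γ = ζ₂ ≫ γ') : γ = γ' := by
  refine hom_unique_fam hst.1 _ (prestackFor hst _ (pair_mem h)) (cod hζ₁)
    (fun b : Bool => bif b then x₁ else x₂)
    (fun b => match b with | true => ζ₁ | false => ζ₂)
    (fun b => by cases b; exacts [hζ₂, hζ₁]) hγ hγ' (fun b => by cases b; exacts [e₂, e₁])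

end Hom

section Obj

variable {𝒳 : BasedCategory.{v₂, u₂} (Over S)}

/-- Objects glue over two opens (indexed by `Bool`). -/
theorem exists_obj_bool (hst : Stk.IsStack (AlgSp.J S) 𝒳) {U : Over S} {V : Bool → Over S}
    {V' : Over S} (f : ∀ i, V i ⟶ U) (q : ∀ i, V' ⟶ V i) (hf : ∀ i, IsOpenImmersion (f i).left)
    (hs : ∀ x : U.left, ∃ i, x ∈ Set.range (f i).left)
    (pb : IsPullback (q true) (q false) (f true) (f false)) (x : Bool → 𝒳.obj) (x' : 𝒳.obj)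
    (A : ∀ i, x' ⟶ x i) (hA : ∀ i, 𝒳.p.IsHomLift (q i) (A i)) :
    ∃ (z : 𝒳.obj) (ζ : ∀ i, x i ⟶ z), (∀ i, 𝒳.p.IsHomLift (f i) (ζ i)) ∧
      ∀ i j, A i ≫ ζ i = A j ≫ ζ j := by
  have hp := hst.1
  have hm : ∀ i, Mono (f i) := fun i => @mono_of_open _ _ _ (f i) (hf i)
  have qf : ∀ i j, q i ≫ f i = q j ≫ f j := by
    have := pb.w
    intro i j; cases i <;> cases j
    exacts [rfl, this.symm, this, rfl]
  -- existence of the transfer
  have ex : ∀ {i j : Bool} {T : Over S} (a : T ⟶ V i) (b : T ⟶ V j) (_ : a ≫ f i = b ≫ f j)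
      (t : 𝒳.obj) (α : t ⟶ x i) (_ : 𝒳.p.IsHomLift a α), ∃ χ : t ⟶ x j, 𝒳.p.IsHomLift b χ ∧
        ((∃ h : i = j, h ▸ α = χ) ∨ (i ≠ j ∧ ∃ β : t ⟶ x', β ≫ A i = α ∧ β ≫ A j = χ)) := by
    intro i j T a b e t α hα
    by_cases hij : i = j
    · subst hij
      rw [cancel_mono] at e
      subst e
      exact ⟨α, hα, Or.inl ⟨rfl, rfl⟩⟩
    · obtain ⟨c, hc, hc'⟩ := bool_lift f q pb a b e hij
      obtain ⟨β, hβ, hβ'⟩ := exists_fac hp (hA i) hα hc
      exact ⟨β ≫ A j, lift_comp' hβ (hA j) hc', Or.inr ⟨hij, β, hβ', rfl⟩⟩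
  -- uniqueness of the transfer
  have liftβ : ∀ {T : Over S} {i : Bool} {a : T ⟶ V i} {t : 𝒳.obj} {α : t ⟶ x i}
      (_ : 𝒳.p.IsHomLift a α) (β : t ⟶ x'), β ≫ A i = α →
        ∃ c : T ⟶ V', 𝒳.p.IsHomLift c β ∧ c ≫ q i = a := by
    intro T i a t α hα β e
    obtain rfl : 𝒳.p.obj t = T := dom hα
    obtain rfl : 𝒳.p.obj x' = V' := dom (hA i)
    refine ⟨𝒳.p.map β, IsHomLift.map _ _, ?_⟩
    exact base_unique (lift_comp (IsHomLift.map _ _) (hA i)) (by rw [e]; exact hα)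
  have uniq : ∀ {i j : Bool} {T : Over S} {a : T ⟶ V i} {b : T ⟶ V j}
      {t : 𝒳.obj} {α : t ⟶ x i} (_ : 𝒳.p.IsHomLift a α) {χ χ' : t ⟶ x j}
      (_ : 𝒳.p.IsHomLift b χ) (_ : 𝒳.p.IsHomLift b χ')
      (_ : (∃ h : i = j, h ▸ α = χ) ∨ (i ≠ j ∧ ∃ β : t ⟶ x', β ≫ A i = α ∧ β ≫ A j = χ))
      (_ : (∃ h : i = j, h ▸ α = χ') ∨ (i ≠ j ∧ ∃ β : t ⟶ x', β ≫ A i = α ∧ β ≫ A j = χ')),
      χ = χ' := by
    intro i j T a b t α hα χ χ' hχ hχ' h1 h2
    rcases h1 with ⟨h, h1⟩ | ⟨hij, β, h1, h1'⟩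
    · rcases h2 with ⟨h0, h2⟩ | ⟨hij, -⟩
      · subst h
        exact h1.symm.trans h2
      · exact absurd h hij
    · rcases h2 with ⟨h, -⟩ | ⟨-, β', h2, h2'⟩
      · exact absurd h hij
      · obtain ⟨c, hc, hc'⟩ := liftβ hα β h1
        obtain ⟨d, hd, hd'⟩ := liftβ hα β' h2
        obtain ⟨c₂, hc₂, hc₂'⟩ := liftβ hχ β h1'
        obtain ⟨d₂, hd₂, hd₂'⟩ := liftβ hχ' β' h2'
        have ec : c₂ = c := base_unique hc₂ hc
        have ed : d₂ = d := base_unique hd₂ hd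
        subst ec; subst ed
        have ecd : c₂ = d₂ := by
          refine bool_hom_ext f q pb (fun l => ?_)
          by_cases hl : l = i
          · subst hl; rw [hc', hd']
          · have hl' : l = j := bool_aux i j l hij hl
            subst hl'; rw [hc₂', hd₂']
        subst ecd
        have : β = β' := fac_unique hp (A i) hc hd (by rw [h1, h2])
        rw [← h1', ← h2', this]
  choose m hm1 hm2 using @ex
  have hR := hst.2 _ (ofArrows_mem_open f hf hs)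
  obtain ⟨z, hz, ζ, hζ, hζ'⟩ := exists_obj_fam hp f hR x (fun i => cod (hA i))
    (fun a b e t α hα => m a b e t α hα) (fun a b e t α hα => hm1 a b e t α hα)
    (by
      intro i j T T' a b e κ t t' α hα k hk e'
      refine uniq (lift_comp hk hα) (hm1 _ _ _ _ _ _) (lift_comp hk (hm1 _ _ _ _ _ _))
        (hm2 _ _ _ _ _ _) ?_
      rcases hm2 a b e t α hα with ⟨h, h'⟩ | ⟨hij, β, h1, h2⟩
      · left
        refine ⟨h, ?_⟩
        subst h
        exact congrArg (fun q => k ≫ q) h'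
      · right
        exact ⟨hij, k ≫ β, by rw [Category.assoc, h1], by rw [Category.assoc, h2]⟩)
    (by
      intro i j l T a b c e e' t α hα
      refine uniq (hα) (hm1 _ _ _ _ _ _) (hm1 _ _ _ _ _ _) ?_ (hm2 _ _ _ _ _ _)
      have H1 := hm2 a b e t α hα
      have H2 := hm2 b c e' t (m a b e t α hα) (hm1 a b e t α hα)
      have L1 := hm1 a b e t α hα
      have L2 := hm1 b c e' t (m a b e t α hα) L1
      generalize m b c e' t (m a b e t α hα) (hm1 a b e t α hα) = ψ at H2 L2 ⊢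
      generalize m a b e t α hα = χ at H1 H2 L1 L2
      rcases H1 with ⟨h, h'⟩ | ⟨hij, β, h1, h2⟩
      · subst h
        subst h'
        exact H2
      · rcases H2 with ⟨h, h'⟩ | ⟨hjl, β', h3, h4⟩
        · subst h
          subst h'
          exact Or.inr ⟨hij, β, h1, h2⟩
        · have hil : i = l := bool_aux' i j l hij hjl
          subst hil
          left
          refine ⟨rfl, ?_⟩
          have e3 : a = c := by
            rw [← cancel_mono (f i), e, e']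
          subst e3
          obtain ⟨c₁, hc₁, hc₁'⟩ := liftβ hα β h1
          obtain ⟨c₂, hc₂, hc₂'⟩ := liftβ L1 β h2
          obtain ⟨d₁, hd₁, hd₁'⟩ := liftβ L1 β' h3
          obtain ⟨d₂, hd₂, hd₂'⟩ := liftβ L2 β' h4
          obtain rfl : c₂ = c₁ := base_unique hc₂ hc₁
          obtain rfl : d₂ = d₁ := base_unique hd₂ hd₁
          have ecd : c₂ = d₂ := by
            refine bool_hom_ext f q pb (fun l => ?_)
            by_cases hl : l = i
            · subst hl; rw [hc₁', hd₂']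
            · have hl' : l = j := bool_aux i j l hij hl
              subst hl'; rw [hc₂', hd₁']
          subst ecd
          have : β = β' := fac_unique hp (A j) hc₂ hd₂ (by rw [h2, h3])
          change α = ψ
          rw [← h1, ← h4, this])
    (by
      intro i T a t α hα
      refine uniq hα (hm1 _ _ _ _ _ _) hα (hm2 _ _ _ _ _ _) (Or.inl ⟨rfl, rfl⟩))
  refine ⟨z, ζ, hζ, fun i j => ?_⟩
  by_cases hij : i = j
  · subst hij; rfl
  · have := hζ' (q i) (q j) (qf i j) x' (A i) (hA i)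
    rw [← this]
    have e : m (q i) (q j) (qf i j) x' (A i) (hA i) = A j := by
      refine uniq (hA i) (hm1 _ _ _ _ _ _) (hA j) (hm2 _ _ _ _ _ _) (Or.inr ⟨hij, 𝟙 _, ?_, ?_⟩)
      · exact Category.id_comp _
      · exact Category.id_comp _
    rw [e]

/-- Objects glue over two opens. -/
theorem exists_obj (hst : Stk.IsStack (AlgSp.J S) 𝒳) {U U₁ U₂ U₁₂ : Over S} {j₁ : U₁ ⟶ U}
    {j₂ : U₂ ⟶ U} {p₁ : U₁₂ ⟶ U₁} {p₂ : U₁₂ ⟶ U₂} (h : IsOpenPair j₁ j₂ p₁ p₂)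
    {x₁ x₂ x₁₂ : 𝒳.obj} {α₁ : x₁₂ ⟶ x₁} {α₂ : x₁₂ ⟶ x₂} (hα₁ : 𝒳.p.IsHomLift p₁ α₁)
    (hα₂ : 𝒳.p.IsHomLift p₂ α₂) :
    ∃ (z : 𝒳.obj) (ζ₁ : x₁ ⟶ z) (ζ₂ : x₂ ⟶ z), 𝒳.p.IsHomLift j₁ ζ₁ ∧ 𝒳.p.IsHomLift j₂ ζ₂ ∧
      α₁ ≫ ζ₁ = α₂ ≫ ζ₂ := by
  obtain ⟨z, ζ, hζ, hζ'⟩ := exists_obj_bool hst (V := fun b : Bool => bif b then U₁ else U₂)
    (V' := U₁₂) (fun b => match b with | true => j₁ | false => j₂)
    (fun b => match b with | true => p₁ | false => p₂)
    (fun b => by cases b; exacts [h.open₂, h.open₁])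
    (fun x => by
      rcases h.cover x with hx | hx
      · exact ⟨true, hx⟩
      · exact ⟨false, hx⟩) h.pb (fun b : Bool => bif b then x₁ else x₂) x₁₂
    (fun b => match b with | true => α₁ | false => α₂)
    (fun b => by cases b; exacts [hα₂, hα₁])
  exact ⟨z, ζ true, ζ false, hζ true, hζ false, hζ' true false⟩

end Obj

end K863.Pair
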