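import Groth.Agent.AlgSt.K744.AlgOver
import Groth.Agent.AlgSt.K742.QCTop
import Groth.Agent.AlgSt.K743.DiagBC
import Groth.Agent.AlgSt.K740.DiagRep
import Groth.Agent.AlgSt.K738.LftDiag
import Groth.Agent.AlgSt.K734.FpAlg
import Groth.Agent.AlgSp.K609.QC
import Groth.Agent.AlgSp.K596.QC

/-!
# Quasi-compactness of fibre products of affine schemes over an algebraic stack with quasi-compact diagonal
-/

set_option autoImplicit false
set_option backward.isDefEq.respectTransparency false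
set_option backward.isDefEq.respectTransparency.types false

universe u

open CategoryTheory CategoryTheory.Limits AlgebraicGeometry Opposite

namespace K863.QC

open AlgSt

variable {S : Scheme.{u}}

/-- A space quasi-compact over a quasi-compact scheme has quasi-compact space of points. -/
theorem compactSpace_ofSp {F : AlgSp.Sp S} (hF : AlgSp.IsAlgSpace F) {U : Over S} [CompactSpace ↥U.left]
    (π : F ⟶ (AlgSp.yon S).obj U) (h : AlgSp.IsQuasiCompactMor π) :
    CompactSpace (AlgSt.Points (AlgSt.ofSp F)) := by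
  have h1 : AlgSp.IsQuasiCompactSp F :=
    h (AlgSp.IsAlgSpace.yon_obj U) (K596.QC.isQuasiCompactSp_yon U) (𝟙 _) (𝟙 F) π
      (IsPullback.of_horiz_isIso ⟨by simp⟩)
  have h2 := K609.QC.compactSpace_points h1
  exact (K735.Top.ptsHomeo hF).symm.compactSpace

theorem isAlgStack_fp {𝒳 𝒴 𝒵 : AlgSt.Cat S} (h𝒳 : IsAlgStack Scheme.fppfPrecoverage 𝒳)
    (h𝒴 : IsAlgStack Scheme.fppfPrecoverage 𝒴) (h𝒵 : IsAlgStack Scheme.fppfPrecoverage 𝒵)
    (f : 𝒳 ⥤ᵇ 𝒵) (g : 𝒴 ⥤ᵇ 𝒵) : IsAlgStack Scheme.fppfPrecoverage (FibCat.fp f g) :=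
  K734.Rep.isAlgStack_fp (K734.Rep.isPrestack_of_isStack h𝒵.isStack) h𝒵.diag h𝒳 h𝒴 f g

theorem exists_prod (W A : Over S) (w : FibCat.overCat W ⥤ᵇ FibCat.selfOver (Over S))
    (a : FibCat.overCat A ⥤ᵇ FibCat.selfOver (Over S)) (hw : w = FibCat.toSelf _)
    (ha : a = FibCat.toSelf _) :
    ∃ e : FibCat.overCat (Over.mk (pullback.fst W.hom A.hom ≫ W.hom) : Over S) ⥤ᵇ FibCat.fp w a,
      FibCat.IsEquivOver e := by
  subst hw ha
  exact K744.AlgOver.exists_isEquivOver_fp W A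

theorem compactSpace_prod [QuasiSeparatedSpace ↥S] {W A : Over S} (hW : IsAffine W.left)
    (hA : IsAffine A.left) : CompactSpace ↥(pullback W.hom A.hom) := by
  infer_instance

/-- The fibre product of two affine schemes over an algebraic stack with quasi-compact diagonal is quasi-compact. -/
theorem compactSpace_fp_affine [QuasiSeparatedSpace ↥S] {𝒴 : AlgSt.Cat S}
    (h𝒴 : IsAlgStack Scheme.fppfPrecoverage 𝒴)
    (hd : RepByAlgSpWith AlgSp.IsQuasiCompactMor (FibCat.diag (FibCat.toSelf 𝒴))) {W A : Over S}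
    (hW : IsAffine W.left) (hA : IsAffine A.left) (w : FibCat.overCat W ⥤ᵇ 𝒴)
    (a : FibCat.overCat A ⥤ᵇ 𝒴) : CompactSpace (Points (FibCat.fp w a)) := by
  have hcW := K744.AlgOver.isAlgStack_overCat W
  have hcA := K744.AlgOver.isAlgStack_overCat A
  have hrep := K743.DiagBC.repByAlgSpWith_cmp w a (FibCat.toSelf 𝒴) (K740.DiagRep.cmpIso w a)
    (K740.DiagRep.cmpIso_app w a) hd
  obtain ⟨y, hy⟩ := exists_prod W A _ _ (K738.Lft.comp_toSelf w) (K738.Lft.comp_toSelf a)
  obtain ⟨F, e, he, hq⟩ := hrep _ y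
  have : CompactSpace ↥(Over.mk (pullback.fst W.hom A.hom ≫ W.hom)).left := compactSpace_prod hW hA
  have h1 := compactSpace_ofSp F.property (U := Over.mk (pullback.fst W.hom A.hom ≫ W.hom)) _ hq
  have hs : Function.Surjective (Points.map (BasedFunctor.comp e (FibCat.fpSnd y
      (FibCat.fpLift (FibCat.fpFst w a) (FibCat.fpSnd w a) (K740.DiagRep.cmpIso w a))))) := by
    intro p
    obtain ⟨z, hz⟩ := (K735.Pts.map_bijective_of_isEquivOver hy).2
      (Points.map (FibCat.fpLift (FibCat.fpFst w a) (FibCat.fpSnd w a) (K740.DiagRep.cmpIso w a)) p)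
    obtain ⟨q, -, hq⟩ := K735.Pts.exists_fp (isAlgStack_fp hcW hcA h𝒴 w a).isStack.1
      (K744.AlgOver.isAlgStack_overCat _).isStack.1
      (K735.Fp.isFibGrpd_fp hcW.isStack.1 hcA.isStack.1 K735.Fp.isFibGrpd_selfOver _ _) _ _ z p hz
    obtain ⟨q', rfl⟩ := (K735.Pts.map_bijective_of_isEquivOver he).2 q
    exact ⟨q', by rw [K735.Pts.map_comp, hq]⟩
  exact K742.QCTop.compactSpace_of_surjective (isAlgStack_fp hcW hcA h𝒴 w a) _ hs h1

/-- A map with compact source whose target is covered by finitely many such is compact. -/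
theorem compactSpace_of_finite_cover {𝒳 : AlgSt.Cat S} (h𝒳 : IsAlgStack Scheme.fppfPrecoverage 𝒳)
    {ι : Type*} [Finite ι] (𝒰 : ι → AlgSt.Cat S) (f : ∀ i, 𝒰 i ⥤ᵇ 𝒳)
    (h : ∀ i, CompactSpace (Points (𝒰 i))) (hs : ∀ x : Points 𝒳, ∃ i, x ∈ Set.range (Points.map (f i))) :
    CompactSpace (Points 𝒳) := by
  have hc : K735.Top.ChartCont 𝒳 := by
    obtain ⟨V, v, h1, h2⟩ := h𝒳.atlas
    exact K735.Top.chartCont_of_atlas h𝒳.isStack.1 v h1 (K735.Top.surjective_of_repByAlgSpWith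
      h𝒳.isStack.1 (K744.AlgOver.isAlgStack_overCat V).isStack.1 h2)
  have e : (Set.univ : Set (Points 𝒳)) = ⋃ i, Set.range (Points.map (f i)) := by
    ext x; simpa using hs x
  refine ⟨?_⟩
  rw [e]
  exact isCompact_iUnion fun i => isCompact_range (K735.Top.continuous_map hc (f i))

end K863.QC
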