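import Groth.Agent.IsoNat.K863.QCSt
import Groth.Agent.IsoNat.K863.ChartCorr
import Groth.Agent.AlgSt.K737.OpenSt
import Groth.Agent.AlgSt.K743.Locus

/-!
# Quasi-compact morphisms and presheaves of isomorphism classes; test on open substacks
-/

set_option autoImplicit false
set_option backward.isDefEq.respectTransparency false
set_option backward.isDefEq.respectTransparency.types false

universe u

open CategoryTheory CategoryTheory.Limits AlgebraicGeometry Opposite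

namespace K863.QC

open AlgSt K863.Sq K863.ChartCorr

variable {S : Scheme.{u}}

theorem diag_qc {𝒳 : AlgSt.Cat S} (h : RepByAlgSpWith (AlgSp.IsSeparatedMor ⊓ AlgSp.IsQuasiCompactMor)
    (FibCat.diag (FibCat.toSelf 𝒳))) :
    RepByAlgSpWith AlgSp.IsQuasiCompactMor (FibCat.diag (FibCat.toSelf 𝒳)) := fun U y => by
  obtain ⟨F, e, he, h⟩ := h U y
  exact ⟨F, e, he, h.2⟩

/-- For a quasi-compact morphism and an affine chart of the target, an affine chart of the source covering the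
preimage of its image. -/
theorem exists_affine {𝒳 𝒴 : AlgSt.Cat S} (h𝒳 : IsAlgStack Scheme.fppfPrecoverage 𝒳)
    (h𝒴 : IsAlgStack Scheme.fppfPrecoverage 𝒴) {f : 𝒳 ⥤ᵇ 𝒴} {𝒵 : AlgSt.Cat S}
    (h𝒵 : IsAlgStack Scheme.fppfPrecoverage 𝒵) (g : 𝒵 ⥤ᵇ 𝒴) (hf : IsQuasiCompact (FibCat.fp g f)) :
    ∃ (A : Over S) (a : FibCat.overCat A ⥤ᵇ 𝒳), IsAffine A.left ∧
        ∀ x : Points 𝒳, Points.map f x ∈ Set.range (Points.map g) ↔ x ∈ Set.range (Points.map a) := by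
  obtain ⟨A, α, hA, -, hs⟩ := hf
  have hα : Function.Surjective (Points.map α) := K735.Top.surjective_of_repByAlgSpWith
    (isAlgStack_fp h𝒵 h𝒳 h𝒴 g f).isStack.1 (K744.AlgOver.isAlgStack_overCat A).isStack.1 hs
  refine ⟨A, BasedFunctor.comp α (FibCat.fpSnd g f), hA, fun x => ⟨?_, ?_⟩⟩
  · rintro ⟨z, hz⟩
    obtain ⟨w, -, rfl⟩ := K735.Pts.exists_fp h𝒳.isStack.1 h𝒵.isStack.1 h𝒴.isStack.1 g f z x hz
    obtain ⟨s, rfl⟩ := hα w
    exact ⟨s, K735.Pts.map_comp _ _ _⟩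
  · rintro ⟨s, rfl⟩
    refine ⟨Points.map (FibCat.fpFst g f) (Points.map α s), ?_⟩
    rw [← K735.Pts.map_comp, ← K735.Pts.map_comp, ← K735.Pts.map_comp]
    exact K735.Pts.map_congr (K734.Fib.wl α (FibCat.fpIso g f)) s

/-- Quasi-compactness of a morphism transfers. -/
theorem isQuasiCompactMor_right [QuasiSeparatedSpace ↥S] {𝒳 𝒴 𝒳' 𝒴' : AlgSt.Cat S}
    {f : 𝒳 ⥤ᵇ 𝒴} {f' : 𝒳' ⥤ᵇ 𝒴'} (φ : IsoNat.FIsoSq f f')
    (h𝒳 : IsAlgStack Scheme.fppfPrecoverage 𝒳) (h𝒴 : IsAlgStack Scheme.fppfPrecoverage 𝒴)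
    (h𝒳' : IsAlgStack Scheme.fppfPrecoverage 𝒳') (h𝒴' : IsAlgStack Scheme.fppfPrecoverage 𝒴')
    (hd' : RepByAlgSpWith AlgSp.IsQuasiCompactMor (FibCat.diag (FibCat.toSelf 𝒴')))
    (hf : IsQuasiCompactMor Scheme.fppfPrecoverage f) :
    IsQuasiCompactMor Scheme.fppfPrecoverage f' := by
  refine isQuasiCompactMor_of_cover h𝒳' h𝒴' hd' f' (fun Z hZ z => ?_)
  obtain ⟨z₀, hz⟩ := exists_ch_left φ.tgt h𝒴.isStack.1 h𝒴'.isStack.1 z
  have hZ' := K744.AlgOver.isAlgStack_overCat Z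
  obtain ⟨A, a, hA, ha⟩ := exists_affine h𝒳 h𝒴 hZ' z₀
    (hf _ hZ' (K743.QC.isQuasiCompact_overCat Z) z₀)
  obtain ⟨a', ha'⟩ := exists_ch_right φ.src h𝒳'.isStack.1 a
  refine ⟨A, a', hA, fun x' hx' => ?_⟩
  obtain ⟨x, rfl⟩ := (ptsFun_bijective (φ := φ.src) h𝒳.isStack.1 h𝒳'.isStack.1).2 x'
  obtain ⟨s, hs⟩ := hx'
  rw [← ptsFun_map φ h𝒳'.isStack.1 h𝒴'.isStack.1, ← ptsFun_map_chart h𝒴'.isStack.1 hz] at hs
  have hs' := (ptsFun_bijective (φ := φ.tgt) h𝒴.isStack.1 h𝒴'.isStack.1).1 hs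
  obtain ⟨t, ht⟩ := (ha x).1 ⟨s, hs'⟩
  exact ⟨t, by rw [← ptsFun_map_chart h𝒳'.isStack.1 ha', ht]⟩

end K863.QC
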