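import Groth.Agent.IsoNat.K863.QCMor

/-!
# Quasi-compactness tested on quasi-compact open substacks
-/

set_option autoImplicit false
set_option backward.isDefEq.respectTransparency false
set_option backward.isDefEq.respectTransparency.types false

universe u

open CategoryTheory CategoryTheory.Limits AlgebraicGeometry Opposite

namespace K863.QC

open AlgSt K863.Sq K863.ChartCorr

variable {S : Scheme.{u}}

/-- Affine charts with open image around every point. -/
theorem exists_affine_open {𝒴 : AlgSt.Cat S} (h𝒴 : IsAlgStack Scheme.fppfPrecoverage 𝒴)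
    (x : Points 𝒴) : ∃ (V : Over S) (v : FibCat.overCat V ⥤ᵇ 𝒴), IsAffine V.left ∧
      IsOpen (Set.range (Points.map v)) ∧ x ∈ Set.range (Points.map v) := by
  obtain ⟨V, v, h1, h2⟩ := h𝒴.atlas
  have hV := (K744.AlgOver.isAlgStack_overCat V).isStack.1
  have hs := K735.Top.surjective_of_repByAlgSpWith h𝒴.isStack.1 hV h2
  rw [K735.PtsSp.surjective_map_iff_surjective_ofChart] at hs
  have ho : IsOpenMap (Points.ofChart v) := K735.Top.isOpenMap_ofChart v
    (K735.Top.isOpenMap_map K735.Top.isOpenMap_of_smooth h𝒴.isStack.1 hV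
      (K735.Top.chartCont_overCat V) h1)
  obtain ⟨t, rfl⟩ := hs x
  obtain ⟨O, hO, ht, -⟩ := (Scheme.isBasis_affineOpens V.left).exists_subset_of_mem_open
    (Set.mem_univ t) isOpen_univ
  obtain ⟨(O : V.left.Opens), hO, rfl⟩ := hO
  let W : Over S := Over.mk (O.ι ≫ V.hom)
  let g : W ⟶ V := Over.homMk O.ι rfl
  have hr : Set.range (Points.map (BasedFunctor.comp (overMap g) v)) =
      Points.ofChart v '' (O : Set V.left) := by
    have e1 : Set.range (Points.map (BasedFunctor.comp (overMap g) v)) =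
        Set.range (Points.ofChart (BasedFunctor.comp (overMap g) v)) := by
      ext y
      constructor
      · rintro ⟨p, rfl⟩
        obtain ⟨w, rfl⟩ := (K735.PtsSp.ofChart_id_bijective _).2 p
        exact ⟨w, by rw [K735.PtsSp.ofChart_eq_map]⟩
      · rintro ⟨w, rfl⟩
        exact ⟨_, (K735.PtsSp.ofChart_eq_map _ w).symm⟩
    rw [e1]
    ext y
    constructor
    · rintro ⟨w, rfl⟩
      exact ⟨O.ι w, w.2, (K735.PtsSp.ofChart_overMap g v w).symm⟩
    · rintro ⟨s, hs, rfl⟩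
      exact ⟨⟨s, hs⟩, K735.PtsSp.ofChart_overMap g v ⟨s, hs⟩⟩
  refine ⟨W, BasedFunctor.comp (overMap g) v, hO, ?_, ?_⟩
  · rw [hr]; exact ho _ O.isOpen
  · rw [hr]; exact ⟨t, ht, rfl⟩

/-- A compact subset of `|𝒴|` is contained in the space of points of a quasi-compact open substack. -/
theorem exists_qc_open {𝒴 : AlgSt.Cat S} (h𝒴 : IsAlgStack Scheme.fppfPrecoverage 𝒴)
    {T : Set (Points 𝒴)} (hT : IsCompact T) :
    ∃ (𝒰 : AlgSt.Cat S) (j : 𝒰 ⥤ᵇ 𝒴), IsAlgStack Scheme.fppfPrecoverage 𝒰 ∧ IsQuasiCompact 𝒰 ∧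
      IsOpenImm j ∧ T ⊆ Set.range (Points.map j) := by
  choose V v hV ho hv using exists_affine_open h𝒴
  obtain ⟨t, ht⟩ := hT.elim_finite_subcover (fun x => Set.range (Points.map (v x))) ho
    (fun x _ => Set.mem_iUnion.2 ⟨x, hv x⟩)
  let W : Set (Points 𝒴) := ⋃ x ∈ t, Set.range (Points.map (v x))
  have hW : IsOpen W := isOpen_biUnion fun x _ => ho x
  obtain ⟨⟨hiso, halg, himm⟩, hr⟩ := K737.OpenSt.isOpenSubstack_predOf h𝒴 hW
  have hinj := K743.Locus.injective_map_subIncl (Q := K737.Open.predOf W) h𝒴.isStack.1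
    (fun _ _ φ h => K737.Open.predOf_of_hom φ h)
  have hlift : ∀ x ∈ t, ∀ a, K737.Open.predOf W ((v x).obj a) := by
    intro x hx a
    rw [K737.Open.predOf_obj_iff h𝒴.isStack.1]
    rintro _ ⟨s, rfl⟩
    refine Set.mem_iUnion₂.2 ⟨x, hx, ?_⟩
    exact ⟨_, (K735.PtsSp.ofChart_eq_map _ _).symm⟩
  refine ⟨fullSub 𝒴 (K737.Open.predOf W), subIncl 𝒴 _, halg, ?_, himm, ?_⟩
  · refine K742.QCTop.isQuasiCompact_of_compactSpace halg ?_
    refine compactSpace_of_finite_cover halg (ι := t) (fun x => FibCat.overCat (V x))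
      (fun x => K743.Locus.subLift (v x) (hlift x x.2)) (fun x => ?_) (fun q => ?_)
    · have := hV x
      exact K742.QCTop.compactSpace_of_isQuasiCompact (K744.AlgOver.isAlgStack_overCat _)
        (K743.QC.isQuasiCompact_overCat (V x))
    · have h1 : Points.map (subIncl 𝒴 (K737.Open.predOf W)) q ∈ W := hr.subset ⟨q, rfl⟩
      obtain ⟨x, hx, s, hs⟩ := Set.mem_iUnion₂.1 h1
      refine ⟨⟨x, hx⟩, s, hinj ?_⟩
      rw [← K735.Pts.map_comp]
      exact hs
  · rw [hr]; exact ht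

/-- Quasi-compactness is tested on quasi-compact open substacks. -/
theorem isQuasiCompactMor_of_openImm [QuasiSeparatedSpace ↥S] {𝒳 𝒴 : AlgSt.Cat S}
    (h𝒳 : IsAlgStack Scheme.fppfPrecoverage 𝒳) (h𝒴 : IsAlgStack Scheme.fppfPrecoverage 𝒴)
    (hd : RepByAlgSpWith AlgSp.IsQuasiCompactMor (FibCat.diag (FibCat.toSelf 𝒴)))
    (f : 𝒳 ⥤ᵇ 𝒴)
    (H : ∀ (𝒴' : AlgSt.Cat S), IsAlgStack Scheme.fppfPrecoverage 𝒴' → IsQuasiCompact 𝒴' →
        ∀ (j : 𝒴' ⥤ᵇ 𝒴), IsOpenImm j → IsQuasiCompact (FibCat.fp j f)) :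
    IsQuasiCompactMor Scheme.fppfPrecoverage f := by
  refine isQuasiCompactMor_of_cover h𝒳 h𝒴 hd f (fun Z hZ z => ?_)
  have hcz := K735.Top.continuous_map (K735.Top.chartCont_of_isAlgStack h𝒴) z
  have hcomp := K742.QCTop.compactSpace_of_isQuasiCompact (K744.AlgOver.isAlgStack_overCat Z)
    (K743.QC.isQuasiCompact_overCat Z)
  obtain ⟨𝒰, j, halg, hqc, himm, hsub⟩ := exists_qc_open h𝒴 (isCompact_range hcz)
  obtain ⟨A, a, hA, ha⟩ := exists_affine h𝒳 h𝒴 halg j (H 𝒰 halg hqc j himm)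
  exact ⟨A, a, hA, fun x hx => (ha x).1 (hsub hx)⟩

end K863.QC
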