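import Groth.Agent.IsoNat.K863.QC
import Groth.Agent.AlgSt.K734.FibFp2
import Groth.Agent.AlgSt.K735.Univ
import Groth.Agent.AlgSt.K743.QC

/-!
# Criteria for quasi-compactness of 2-fibre products of algebraic stacks
-/

set_option autoImplicit false
set_option backward.isDefEq.respectTransparency false
set_option backward.isDefEq.respectTransparency.types false

universe u

open CategoryTheory CategoryTheory.Limits AlgebraicGeometry Opposite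

namespace K863.QC

open AlgSt K734.Fib

variable {S : Scheme.{u}}

theorem compactSpace_of_equiv {𝒳 𝒴 : AlgSt.Cat S} {e : 𝒳 ⥤ᵇ 𝒴} (he : FibCat.IsEquivOver e)
    (h : CompactSpace (Points 𝒴)) : CompactSpace (Points 𝒳) :=
  ((K735.Univ.isHomeomorph_map_of_isEquivOver he).homeomorph _).symm.compactSpace

/-- Reduction to an affine chart of the base. -/
theorem compactSpace_fp_of_chart {𝒳 𝒴 𝒵 : AlgSt.Cat S} (h𝒳 : IsAlgStack Scheme.fppfPrecoverage 𝒳)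
    (h𝒴 : IsAlgStack Scheme.fppfPrecoverage 𝒴) (h𝒵 : IsAlgStack Scheme.fppfPrecoverage 𝒵)
    (f : 𝒳 ⥤ᵇ 𝒴) (g : 𝒵 ⥤ᵇ 𝒴) {Z : Over S} (ζ : FibCat.overCat Z ⥤ᵇ 𝒵)
    (hζ : Function.Surjective (Points.map ζ))
    (h : CompactSpace (Points (FibCat.fp (BasedFunctor.comp ζ g) f))) :
    CompactSpace (Points (FibCat.fp g f)) := by
  have hZ := (K744.AlgOver.isAlgStack_overCat Z).isStack.1
  have hfp := isAlgStack_fp h𝒵 h𝒳 h𝒴 g f
  obtain ⟨k, ⟨e₁⟩, ⟨e₂⟩⟩ := isEquivOver_fpPaste ζ g f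
  have hk : FibCat.IsEquivOver k := ⟨_, ⟨e₂⟩, ⟨e₁⟩⟩
  have h1 := compactSpace_of_equiv hk h
  refine K742.QCTop.compactSpace_of_surjective hfp (FibCat.fpSnd ζ (FibCat.fpFst g f)) ?_ h1
  intro p
  obtain ⟨s, hs⟩ := hζ (Points.map (FibCat.fpFst g f) p)
  obtain ⟨w, -, hw⟩ := K735.Pts.exists_fp hfp.isStack.1 hZ h𝒵.isStack.1 ζ (FibCat.fpFst g f) s p hs
  exact ⟨w, hw⟩

/-- Finitely many affine schemes over `𝒳` covering the image of `Z ×_𝒴 𝒳` in `|𝒳|`. -/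
theorem compactSpace_fp_of_cover [QuasiSeparatedSpace ↥S] {𝒳 𝒴 : AlgSt.Cat S}
    (h𝒳 : IsAlgStack Scheme.fppfPrecoverage 𝒳) (h𝒴 : IsAlgStack Scheme.fppfPrecoverage 𝒴)
    (hd : RepByAlgSpWith AlgSp.IsQuasiCompactMor (FibCat.diag (FibCat.toSelf 𝒴)))
    (f : 𝒳 ⥤ᵇ 𝒴) {Z : Over S} (hZ : IsAffine Z.left) (z : FibCat.overCat Z ⥤ᵇ 𝒴) {ι : Type*}
    [Finite ι] (A : ι → Over S) (hA : ∀ i, IsAffine (A i).left) (a : ∀ i, FibCat.overCat (A i) ⥤ᵇ 𝒳)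
    (hcov : ∀ p : Points (FibCat.fp z f),
      ∃ i, Points.map (FibCat.fpSnd z f) p ∈ Set.range (Points.map (a i))) :
    CompactSpace (Points (FibCat.fp z f)) := by
  have hZ' := K744.AlgOver.isAlgStack_overCat Z
  have hfp := isAlgStack_fp hZ' h𝒳 h𝒴 z f
  refine compactSpace_of_finite_cover hfp (fun i => FibCat.fp (FibCat.fpSnd z f) (a i))
    (fun i => FibCat.fpFst (FibCat.fpSnd z f) (a i)) (fun i => ?_) (fun p => ?_)
  · exact compactSpace_of_equiv (isEquivOver_fpComp z f (a i))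
      (compactSpace_fp_affine h𝒴 hd hZ (hA i) z (BasedFunctor.comp (a i) f))
  · obtain ⟨i, s, hs⟩ := hcov p
    obtain ⟨w, hw, -⟩ := K735.Pts.exists_fp (K744.AlgOver.isAlgStack_overCat (A i)).isStack.1
      hfp.isStack.1 h𝒳.isStack.1 (FibCat.fpSnd z f) (a i) p s hs.symm
    exact ⟨i, w, hw⟩

/-- Quasi-compactness of a morphism by affine charts: it suffices that for every affine `Z` over `𝒴` finitely
many affine schemes over `𝒳` cover the preimage of the image of `Z`. -/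
theorem isQuasiCompactMor_of_cover [QuasiSeparatedSpace ↥S] {𝒳 𝒴 : AlgSt.Cat S}
    (h𝒳 : IsAlgStack Scheme.fppfPrecoverage 𝒳) (h𝒴 : IsAlgStack Scheme.fppfPrecoverage 𝒴)
    (hd : RepByAlgSpWith AlgSp.IsQuasiCompactMor (FibCat.diag (FibCat.toSelf 𝒴)))
    (f : 𝒳 ⥤ᵇ 𝒴)
    (H : ∀ (Z : Over S), IsAffine Z.left → ∀ z : FibCat.overCat Z ⥤ᵇ 𝒴,
      ∃ (A : Over S) (a : FibCat.overCat A ⥤ᵇ 𝒳), IsAffine A.left ∧
        ∀ x : Points 𝒳, Points.map f x ∈ Set.range (Points.map z) → x ∈ Set.range (Points.map a)) :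
    IsQuasiCompactMor Scheme.fppfPrecoverage f := by
  intro 𝒵 h𝒵 hqc g
  obtain ⟨Z, ζ, hZ, -, hs⟩ := hqc
  have hζ : Function.Surjective (Points.map ζ) := K735.Top.surjective_of_repByAlgSpWith
      h𝒵.isStack.1 (K744.AlgOver.isAlgStack_overCat Z).isStack.1 hs
  refine K742.QCTop.isQuasiCompact_of_compactSpace (isAlgStack_fp h𝒵 h𝒳 h𝒴 g f) ?_
  refine compactSpace_fp_of_chart h𝒳 h𝒴 h𝒵 f g ζ hζ ?_
  obtain ⟨A, a, hA, hcov⟩ := H Z hZ (BasedFunctor.comp ζ g)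
  refine compactSpace_fp_of_cover h𝒳 h𝒴 hd f hZ _ (ι := PUnit.{1}) (fun _ => A) (fun _ => hA)
    (fun _ => a) (fun p => ⟨PUnit.unit, hcov _ ?_⟩)
  refine ⟨Points.map (FibCat.fpFst _ _) p, ?_⟩
  rw [← K735.Pts.map_comp, ← K735.Pts.map_comp, K735.Pts.map_congr (FibCat.fpIso _ _)]

end K863.QC
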