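import Groth.Agent.IsoNat.K863.Frame

/-!
# Objects over the doubled cross `T × D2` glued from `η` by `(1, a)`, and over the tripled cross
-/

set_option autoImplicit false
set_option backward.isDefEq.respectTransparency false
set_option backward.isDefEq.respectTransparency.types false

universe u

open CategoryTheory CategoryTheory.Limits AlgebraicGeometry Opposite

namespace K863.Rel

open K863.Arr K863.Frame K864.Prd K864.Cross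

variable {S : Scheme.{u}} {𝒳 : AlgSt.Cat S}

section Basic

variable (hp : FibCat.IsFibGrpd 𝒳.p) {T : Over S} (η : 𝒳.p.Fiber T)

/-- The two frames `ζ₁, ζ₂` of `F` (over `k₁, k₂ : Cr ⟶ D`) differ by `(1, a)` over the complement of the origin. -/
structure RelF {D : Scheme.{u}} (k₁ k₂ : Cr.{u} ⟶ D) (a : η ⟶ η) {F : 𝒳.obj}
    (ζ₁ ζ₂ : (E hp η Cr.{u}).1 ⟶ F) : Prop where
  lift₁ : 𝒳.p.IsHomLift (mapR T k₁) ζ₁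
  lift₂ : 𝒳.p.IsHomLift (mapR T k₂) ζ₂
  e₁ : m hp η v₁ ≫ ζ₁ = m hp η v₁ ≫ ζ₂
  e₂ : m hp η v₂ ≫ (c hp η Cr a).1 ≫ ζ₁ = m hp η v₂ ≫ ζ₂

/-- `F` is glued from two copies of `η` by `(1, a)`. -/
def R {D : Scheme.{u}} (k₁ k₂ : Cr.{u} ⟶ D) (a : η ⟶ η) (F : 𝒳.obj) : Prop :=
  ∃ ζ₁ ζ₂ : (E hp η Cr.{u}).1 ⟶ F, RelF hp η k₁ k₂ a ζ₁ ζ₂

variable {hp η}

theorem RelF.postcomp {D : Scheme.{u}} {k₁ k₂ : Cr.{u} ⟶ D} {a : η ⟶ η} {F F' : 𝒳.obj}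
    {ζ₁ ζ₂ : (E hp η Cr.{u}).1 ⟶ F} (h : RelF hp η k₁ k₂ a ζ₁ ζ₂) {D' : Scheme.{u}} (k : D ⟶ D')
    (φ : F ⟶ F') (hφ : 𝒳.p.IsHomLift (mapR T k) φ) :
    RelF hp η (k₁ ≫ k) (k₂ ≫ k) a (ζ₁ ≫ φ) (ζ₂ ≫ φ) where
  lift₁ := lift_comp' h.lift₁ hφ (mapR_comp _ _ _).symm
  lift₂ := lift_comp' h.lift₂ hφ (mapR_comp _ _ _).symm
  e₁ := by rw [← Category.assoc, h.e₁, Category.assoc]
  e₂ := by
    have := congrArg (fun q => q ≫ φ) h.e₂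
    simpa only [Category.assoc] using this

theorem RelF.iso {D : Scheme.{u}} {k₁ k₂ : Cr.{u} ⟶ D} {a : η ⟶ η} {F F' : 𝒳.obj}
    {ζ₁ ζ₂ : (E hp η Cr.{u}).1 ⟶ F} (h : RelF hp η k₁ k₂ a ζ₁ ζ₂)
    (φ : F ⟶ F') (hφ : 𝒳.p.IsHomLift (𝟙 (prd T D)) φ) :
    RelF hp η k₁ k₂ a (ζ₁ ≫ φ) (ζ₂ ≫ φ) where
  lift₁ := lift_comp_id h.lift₁ hφ
  lift₂ := lift_comp_id h.lift₂ hφ
  e₁ := by rw [← Category.assoc, h.e₁, Category.assoc]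
  e₂ := by
    have := congrArg (fun q => q ≫ φ) h.e₂
    simpa only [Category.assoc] using this

/-- Frames of `F'` factor through a pullback `F ⟶ F'`. -/
theorem RelF.restr {D D' : Scheme.{u}} {k₁ k₂ : Cr.{u} ⟶ D} {k : D ⟶ D'} {a : η ⟶ η} {F F' : 𝒳.obj}
    {ζ₁ ζ₂ : (E hp η Cr.{u}).1 ⟶ F'} (h : RelF hp η (k₁ ≫ k) (k₂ ≫ k) a ζ₁ ζ₂)
    (φ : F ⟶ F') (hφ : 𝒳.p.IsHomLift (mapR T k) φ) (hw : v₁ ≫ k₁ = v₁ ≫ k₂) (hw' : v₂ ≫ k₁ = v₂ ≫ k₂) :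
    ∃ ζ₁' ζ₂' : (E hp η Cr.{u}).1 ⟶ F, ζ₁' ≫ φ = ζ₁ ∧ ζ₂' ≫ φ = ζ₂ ∧
      RelF hp η k₁ k₂ a ζ₁' ζ₂' := by
  obtain ⟨ξ₁, h1, h1'⟩ := exists_fac hp hφ h.lift₁ (mapR_comp T k₁ k).symm
  obtain ⟨ξ₂, h2, h2'⟩ := exists_fac hp hφ h.lift₂ (mapR_comp T k₂ k).symm
  refine ⟨ξ₁, ξ₂, h1', h2', h1, h2, ?_, ?_⟩
  · refine fac_unique hp φ (g := mapR T (v₁ ≫ k₁)) (lift_comp' (m_lift hp η _) h1 (mapR_comp _ _ _).symm)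
      (lift_comp' (m_lift hp η _) h2 (by rw [hw, mapR_comp])) ?_
    rw [Category.assoc, Category.assoc, h1', h2', h.e₁]
  · refine fac_unique hp φ (g := mapR T (v₂ ≫ k₁)) (lift_comp' (m_lift hp η _)
      (lift_id_comp (c hp η Cr a).2 h1) (mapR_comp _ _ _).symm)
      (lift_comp' (m_lift hp η _) h2 (by rw [hw', mapR_comp])) ?_
    rw [Category.assoc, Category.assoc, Category.assoc, h1', h2', h.e₂]

/-- Two arrows `E Z ⟶ F` over the same base arrow differ by an automorphism of `E Z`. -/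
theorem exists_diff {Z : Scheme.{u}} {W : Over S} {g : prd T Z ⟶ W} {F : 𝒳.obj}
    {ζ ζ' : (E hp η Z).1 ⟶ F} (h : 𝒳.p.IsHomLift g ζ) (h' : 𝒳.p.IsHomLift g ζ') :
    ∃ k : E hp η Z ⟶ E hp η Z, k.1 ≫ ζ = ζ' := by
  obtain ⟨χ, h1, h2⟩ := exists_vert hp h h'
  exact ⟨⟨χ, h1⟩, h2⟩

theorem val_cancel {Z : Scheme.{u}} {W : Over S} {g : prd T Z ⟶ W} {F : 𝒳.obj}
    {ζ : (E hp η Z).1 ⟶ F} (h : 𝒳.p.IsHomLift g ζ) {k k' : E hp η Z ⟶ E hp η Z}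
    (e : k.1 ≫ ζ = k'.1 ≫ ζ) : k = k' :=
  Subtype.ext (fac_unique hp ζ k.2 k'.2 e)

/-- Conjugating the frames. -/
theorem RelF.conj {D : Scheme.{u}} {k₁ k₂ : Cr.{u} ⟶ D} {a b t : η ⟶ η} {F : 𝒳.obj}
    {ζ₁ ζ₂ : (E hp η Cr.{u}).1 ⟶ F} (h : RelF hp η k₁ k₂ a ζ₁ ζ₂) (e : b ≫ t = t ≫ a) :
    RelF hp η k₁ k₂ b ((c hp η Cr t).1 ≫ ζ₁) ((c hp η Cr t).1 ≫ ζ₂) where
  lift₁ := lift_id_comp (c hp η Cr t).2 h.lift₁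
  lift₂ := lift_id_comp (c hp η Cr t).2 h.lift₂
  e₁ := by
    rw [← Category.assoc, ← Category.assoc, ← c_m, Category.assoc, Category.assoc, h.e₁]
  e₂ := by
    have e1 : (c hp η Cr.{u} b).1 ≫ (c hp η Cr t).1 = (c hp η Cr t).1 ≫ (c hp η Cr a).1 := by
      rw [← comp_val, ← comp_val, ← c_mul, ← c_mul, e]
    have e2 : (c hp η Cr.{u} b).1 ≫ (c hp η Cr t).1 ≫ ζ₁ = (c hp η Cr t).1 ≫ (c hp η Cr a).1 ≫ ζ₁ := by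
      rw [← Category.assoc, e1, Category.assoc]
    rw [e2, ← Category.assoc, ← c_m, Category.assoc, h.e₂, ← Category.assoc, c_m, Category.assoc]

/-- Composition of transitions. -/
theorem RelF.trans {D : Scheme.{u}} {k₁ k₂ k₃ : Cr.{u} ⟶ D} {a b : η ⟶ η} {F : 𝒳.obj}
    {ζ₁ ζ₂ ζ₃ : (E hp η Cr.{u}).1 ⟶ F} (h : RelF hp η k₁ k₂ a ζ₁ ζ₂)
    (h' : RelF hp η k₂ k₃ b ζ₂ ζ₃) : RelF hp η k₁ k₃ (b ≫ a) ζ₁ ζ₃ where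
  lift₁ := h.lift₁
  lift₂ := h'.lift₂
  e₁ := h.e₁.trans h'.e₁
  e₂ := by
    rw [← h'.e₂, c_mul, comp_val, Category.assoc, ← Category.assoc, ← c_m, Category.assoc, h.e₂,
      ← Category.assoc, c_m, Category.assoc]

end Basic

section Uniq

variable (hp : FibCat.IsFibGrpd 𝒳.p)
  (hd : AlgSt.RepByAlgSpWith (AlgSp.IsSeparatedMor ⊓ AlgSp.IsQuasiCompactMor)
      (FibCat.diag (FibCat.toSelf 𝒳))) {T : Over S} {η : 𝒳.p.Fiber T}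

include hd in
/-- The automorphism `a` of a frame is unique up to the value at the origin of the change of frame. -/
theorem RelF.uniq {D : Scheme.{u}} {k₁ k₂ : Cr.{u} ⟶ D} {a a' : η ⟶ η} {F : 𝒳.obj}
    {ζ₁ ζ₂ ζ₁' ζ₂' : (E hp η Cr.{u}).1 ⟶ F} (h : RelF hp η k₁ k₂ a ζ₁ ζ₂)
    (h' : RelF hp η k₁ k₂ a' ζ₁' ζ₂') {h₁ h₂ : E hp η Cr.{u} ⟶ E hp η Cr}
    (e₁ : h₁.1 ≫ ζ₁ = ζ₁') (e₂ : h₂.1 ≫ ζ₂ = ζ₂') {t₁ t₂ : η ⟶ η}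
    (ht₁ : c hp η pt.{u} t₁ = r hp η o h₁) (ht₂ : c hp η pt.{u} t₂ = r hp η o h₂) :
    t₁ = t₂ ∧ a' ≫ t₁ = t₁ ≫ a := by
  have l1 : 𝒳.p.IsHomLift (mapR T (v₁ ≫ k₁)) (m hp η v₁ ≫ ζ₁) :=
    lift_comp' (m_lift hp η _) h.lift₁ (mapR_comp _ _ _).symm
  have l2 : 𝒳.p.IsHomLift (mapR T (v₂ ≫ k₁)) (m hp η v₂ ≫ ζ₁) :=
    lift_comp' (m_lift hp η _) h.lift₁ (mapR_comp _ _ _).symm
  have q1 : r hp η v₁ h₁ = r hp η v₁ h₂ := by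
    refine val_cancel l1 ?_
    have e := h'.e₁
    rw [← e₁, ← e₂, ← Category.assoc, ← Category.assoc, ← r_fac, ← r_fac, Category.assoc,
      Category.assoc, ← h.e₁] at e
    exact e
  have q2 : r hp η v₂ (c hp η Cr a' ≫ h₁) = r hp η v₂ (h₂ ≫ c hp η Cr a) := by
    refine val_cancel l2 ?_
    have e := h'.e₂
    rw [← e₁, ← e₂] at e
    rw [← Category.assoc, r_fac, ← Category.assoc, r_fac, comp_val, comp_val]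
    have e3 : m hp η v₂ ≫ (c hp η Cr a').1 ≫ h₁.1 ≫ ζ₁ = m hp η v₂ ≫ h₂.1 ≫ (c hp η Cr a).1 ≫ ζ₁ := by
      rw [e, ← Category.assoc (m hp η v₂) h₂.1, ← Category.assoc (m hp η v₂) h₂.1, ← r_fac,
        Category.assoc, Category.assoc, ← h.e₂]
    simpa only [Category.assoc] using e3
  have s1 := r_o_of_v₁ hp hd η q1
  have s2 := r_o_of_v₂ hp hd η q2
  rw [← ht₁, ← ht₂] at s1
  have s1' := c_pt_inj hp η s1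
  refine ⟨s1', ?_⟩
  rw [r_mul, r_mul, ← ht₁, ← ht₂, r_c, r_c, ← c_mul, ← c_mul, ← s1'] at s2
  exact c_pt_inj hp η s2

include hd in
/-- `a` is unique up to conjugation. -/
theorem R.uniq {D : Scheme.{u}} {k₁ k₂ : Cr.{u} ⟶ D} {a a' : η ⟶ η} {F : 𝒳.obj}
    (h : R hp η k₁ k₂ a F) (h' : R hp η k₁ k₂ a' F) : ∃ t : η ⟶ η, a' ≫ t = t ≫ a := by
  obtain ⟨ζ₁, ζ₂, h⟩ := h
  obtain ⟨ζ₁', ζ₂', h'⟩ := h'
  obtain ⟨h₁, e₁⟩ := exists_diff h.lift₁ h'.lift₁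
  obtain ⟨h₂, e₂⟩ := exists_diff h.lift₂ h'.lift₂
  obtain ⟨t₁, ht₁⟩ := c_pt_surj hp η (r hp η o h₁)
  obtain ⟨t₂, ht₂⟩ := c_pt_surj hp η (r hp η o h₂)
  exact ⟨t₁, (h.uniq hp hd h' e₁ e₂ ht₁ ht₂).2⟩

end Uniq

section Exist

variable (hst : Stk.IsStack (AlgSp.J S) 𝒳) {T : Over S} (η : 𝒳.p.Fiber T)

/-- An arrow from `E V` with a given effect on the two punctured branches. -/
theorem V_hom_ext {W : Over S} {g : prd T V.{u}.toScheme ⟶ W} {F : 𝒳.obj}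
    {ζ ζ' : (E hst.1 η V.{u}.toScheme).1 ⟶ F} (h : 𝒳.p.IsHomLift g ζ) (h' : 𝒳.p.IsHomLift g ζ')
    (e₁ : m hst.1 η w₁ ≫ ζ = m hst.1 η w₁ ≫ ζ') (e₂ : m hst.1 η w₂ ≫ ζ = m hst.1 η w₂ ≫ ζ') :
    ζ = ζ' :=
  Pair.hom_unique hst (openPair (T := T) (IsPullback.of_hasPullback w₁.{u} w₂) exists_w)
    (m_lift hst.1 η w₁) (m_lift hst.1 η w₂) h h' e₁ e₂

theorem m_v₁ (hp : FibCat.IsFibGrpd 𝒳.p) : m hp η v₁.{u} = m hp η w₁ ≫ m hp η V.ι := by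
  rw [← m_comp, w₁_ι]

theorem m_v₂ (hp : FibCat.IsFibGrpd 𝒳.p) : m hp η v₂.{u} = m hp η w₂ ≫ m hp η V.ι := by
  rw [← m_comp, w₂_ι]

/-- The transition automorphism `(1, a)` over `V`. -/
theorem exists_trans (a : η ⟶ η) : ∃ g : E hst.1 η V.{u}.toScheme ⟶ E hst.1 η V.toScheme,
    m hst.1 η w₁ ≫ g.1 = m hst.1 η w₁ ∧ m hst.1 η w₂ ≫ g.1 = (c hst.1 η Gm a).1 ≫ m hst.1 η w₂ := by
  obtain ⟨g, h1, h2⟩ := exists_V hst η (𝟙 _) (c hst.1 η Gm a)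
  refine ⟨g, ?_, ?_⟩
  · rw [← r_fac, h1, id_val, Category.id_comp]
  · rw [← r_fac, h2]

variable {η}

/-- In terms of the transition over `V`. -/
theorem RelF.toV {D : Scheme.{u}} {k₁ k₂ : Cr.{u} ⟶ D} (hk : V.{u}.ι ≫ k₁ = V.ι ≫ k₂) {a : η ⟶ η}
    {F : 𝒳.obj} {ζ₁ ζ₂ : (E hst.1 η Cr.{u}).1 ⟶ F} (h : RelF hst.1 η k₁ k₂ a ζ₁ ζ₂)
    {g : E hst.1 η V.{u}.toScheme ⟶ E hst.1 η V.toScheme} (hg : m hst.1 η w₁ ≫ g.1 = m hst.1 η w₁)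
    (hg' : m hst.1 η w₂ ≫ g.1 = (c hst.1 η Gm a).1 ≫ m hst.1 η w₂) :
    g.1 ≫ m hst.1 η V.ι ≫ ζ₁ = m hst.1 η V.ι ≫ ζ₂ := by
  have hp := hst.1
  have l1 : 𝒳.p.IsHomLift (mapR T (V.{u}.ι ≫ k₁)) (m hst.1 η V.ι ≫ ζ₁) :=
    lift_comp' (m_lift hst.1 η _) h.lift₁ (mapR_comp _ _ _).symm
  have l2 : 𝒳.p.IsHomLift (mapR T (V.{u}.ι ≫ k₁)) (m hst.1 η V.ι ≫ ζ₂) :=
    lift_comp' (m_lift hst.1 η _) h.lift₂ (by rw [hk, mapR_comp])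
  refine V_hom_ext hst η (lift_id_comp g.2 l1) l2 ?_ ?_
  · rw [← Category.assoc, hg, ← Category.assoc, ← m_v₁, ← Category.assoc, ← m_v₁, h.e₁]
  · rw [← Category.assoc, hg', Category.assoc, ← Category.assoc (m hst.1 η w₂), ← m_v₂,
      ← Category.assoc (m hst.1 η w₂), ← m_v₂, ← h.e₂, ← Category.assoc, c_m, Category.assoc]

theorem RelF.ofV {D : Scheme.{u}} {k₁ k₂ : Cr.{u} ⟶ D} {a : η ⟶ η}
    {F : 𝒳.obj} {ζ₁ ζ₂ : (E hst.1 η Cr.{u}).1 ⟶ F} (l₁ : 𝒳.p.IsHomLift (mapR T k₁) ζ₁)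
    (l₂ : 𝒳.p.IsHomLift (mapR T k₂) ζ₂)
    {g : E hst.1 η V.{u}.toScheme ⟶ E hst.1 η V.toScheme} (hg : m hst.1 η w₁ ≫ g.1 = m hst.1 η w₁)
    (hg' : m hst.1 η w₂ ≫ g.1 = (c hst.1 η Gm a).1 ≫ m hst.1 η w₂)
    (e : g.1 ≫ m hst.1 η V.ι ≫ ζ₁ = m hst.1 η V.ι ≫ ζ₂) : RelF hst.1 η k₁ k₂ a ζ₁ ζ₂ where
  lift₁ := l₁
  lift₂ := l₂
  e₁ := by
    have h := congrArg (fun q => m hst.1 η w₁ ≫ q) e
    simp only [← Category.assoc] at h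
    rw [hg, ← m_v₁] at h
    exact h
  e₂ := by
    have h := congrArg (fun q => m hst.1 η w₂ ≫ q) e
    simp only [← Category.assoc] at h
    rw [hg', Category.assoc _ (m hst.1 η w₂), ← m_v₂, c_m] at h
    simpa only [Category.assoc] using h

variable (η)

/-- Existence of the glued object over the doubled cross. -/
theorem exists_R (a : η ⟶ η) : ∃ F : 𝒳.obj, R hst.1 η i₁ i₂ a F := by
  obtain ⟨g, hg, hg'⟩ := exists_trans hst η a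
  obtain ⟨F, ζ₁, ζ₂, l₁, l₂, e⟩ := Pair.exists_obj hst (openPair (T := T) isPullback_D2.{u} exists_i)
    (x₁ := (E hst.1 η Cr.{u}).1) (x₂ := (E hst.1 η Cr.{u}).1) (x₁₂ := (E hst.1 η V.{u}.toScheme).1)
    (α₁ := g.1 ≫ m hst.1 η V.ι) (α₂ := m hst.1 η V.ι) (lift_id_comp g.2 (m_lift hst.1 η _))
    (m_lift hst.1 η _)
  rw [Category.assoc] at e
  exact ⟨F, ζ₁, ζ₂, RelF.ofV hst l₁ l₂ hg hg' e⟩

/-- Existence of the glued object over the tripled cross. -/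
theorem exists_R3 (a b : η ⟶ η) : ∃ (F : 𝒳.obj) (ζ₁ ζ₂ ζ₃ : (E hst.1 η Cr.{u}).1 ⟶ F),
    RelF hst.1 η (i₁ ≫ d₁₂) (i₂ ≫ d₁₂) a ζ₁ ζ₂ ∧ RelF hst.1 η (i₂ ≫ d₁₂) i₃ b ζ₂ ζ₃ := by
  have hp := hst.1
  obtain ⟨F₂, ξ₁, ξ₂, h⟩ := exists_R hst η a
  obtain ⟨g, hg, hg'⟩ := exists_trans hst η b
  have lξ : 𝒳.p.IsHomLift (mapR T (V.{u}.ι ≫ i₁)) (g.1 ≫ m hst.1 η V.ι ≫ ξ₂) :=
    lift_id_comp g.2 (lift_comp' (m_lift hst.1 η _) h.lift₂ (by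
      rw [← mapR_comp, isPullback_D2.{u}.w]))
  obtain ⟨F, ι, ζ₃, lι, l₃, e⟩ := Pair.exists_obj hst (openPair (T := T) isPullback_D3.{u} exists_d)
    (x₁ := F₂) (x₂ := (E hst.1 η Cr.{u}).1) (x₁₂ := (E hst.1 η V.{u}.toScheme).1)
    (α₁ := g.1 ≫ m hst.1 η V.ι ≫ ξ₂) (α₂ := m hst.1 η V.ι) lξ (m_lift hst.1 η _)
  refine ⟨F, ξ₁ ≫ ι, ξ₂ ≫ ι, ζ₃, h.postcomp d₁₂ ι lι, ?_⟩
  refine RelF.ofV hst (lift_comp' h.lift₂ lι (mapR_comp _ _ _).symm) l₃ hg hg' ?_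
  simpa only [Category.assoc] using e

/-- Uniqueness of the glued object over the doubled cross. -/
theorem R_iso {a : η ⟶ η} {F F' : 𝒳.obj} (h : R hst.1 η i₁ i₂ a F) (h' : R hst.1 η i₁ i₂ a F') :
    ∃ φ : F ⟶ F', 𝒳.p.IsHomLift (𝟙 (prd T D2.{u})) φ := by
  have hp := hst.1
  obtain ⟨g, hg, hg'⟩ := exists_trans hst η a
  obtain ⟨ζ₁, ζ₂, h⟩ := h
  obtain ⟨ζ₁', ζ₂', h'⟩ := h'
  have e := h.toV hst isPullback_D2.{u}.w hg hg'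
  have e' := h'.toV hst isPullback_D2.{u}.w hg hg'
  obtain ⟨φ, hφ, -, -⟩ := Pair.exists_hom hst (openPair (T := T) isPullback_D2.{u} exists_i)
    (α₁ := g.1 ≫ m hst.1 η V.ι) (α₂ := m hst.1 η V.ι) (lift_id_comp g.2 (m_lift hst.1 η _))
    (m_lift hst.1 η _) h.lift₁ h.lift₂ (by rw [Category.assoc, e]) (g := 𝟙 _)
    (γ₁ := ζ₁') (γ₂ := ζ₂') (by rw [Category.comp_id]; exact h'.lift₁)
    (by rw [Category.comp_id]; exact h'.lift₂) (by rw [Category.assoc, e'])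
  exact ⟨φ, hφ⟩

end Exist

end K863.Rel
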