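import Groth.Agent.IsoNat.K863.VIsom
import Groth.Agent.IsoNat.K863.NoethAtlas
import Groth.Agent.AlgSp.K604.ProperDvr
import Groth.Agent.AlgSt.K738.LftDiag
import Groth.Agent.AlgSt.K738.RespIso
import Groth.Agent.Models.DVRGeneric

/-!
# Separatedness of a morphism of algebraic stacks from the lifting property over discrete valuation rings
-/

set_option autoImplicit false
set_option backward.isDefEq.respectTransparency false
set_option backward.isDefEq.respectTransparency.types false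

universe u

open CategoryTheory CategoryTheory.Limits AlgebraicGeometry Opposite

namespace K863.SepCore

open AlgSt K863.VLift K863.VIsom K604.DvrClosed

variable {S : Scheme.{u}}

/-- The lifting property over all discrete valuation rings. -/
def DvrLift {𝒳 𝒴 : AlgSt.Cat S} (f : 𝒳 ⥤ᵇ 𝒴) : Prop :=
  ∀ (A K : Type u) [CommRing A] [IsDomain A] [IsDiscreteValuationRing A] [Field K] [Algebra A K]
    [IsFractionRing A K] (str : Spec (CommRingCat.of A) ⟶ S), LiftAt f (jj A K str)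

theorem isSchemeTheoreticallyDominant_jj (A K : Type u) [CommRing A] [IsDomain A] [Field K] [Algebra A K]
    [IsFractionRing A K] (str : Spec (CommRingCat.of A) ⟶ S) :
    IsSchemeTheoreticallyDominant (jj A K str).left := by
  change IsSchemeTheoreticallyDominant (Spec.map (CommRingCat.ofHom (algebraMap A K)))
  have : IsDominant (Spec.map (CommRingCat.ofHom (algebraMap A K))) := by
    refine ⟨?_⟩
    change DenseRange (PrimeSpectrum.comap (algebraMap A K))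
    rw [PrimeSpectrum.denseRange_comap_iff_ker_le_nilRadical,
      (RingHom.injective_iff_ker_eq_bot _).1 (IsFractionRing.injective A K)]
    exact bot_le
  exact IsSchemeTheoreticallyDominant.of_isDominant _

theorem isOpenImmersion_jj (A K : Type u) [CommRing A] [IsDomain A] [IsDiscreteValuationRing A] [Field K]
    [Algebra A K] [IsFractionRing A K] (str : Spec (CommRingCat.of A) ⟶ S) :
    IsOpenImmersion (jj A K str).left :=
  Groth.Agent.Models.DVRGeneric.isOpenImmersion_generic A K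

variable {𝒳 𝒴 : AlgSt.Cat S}

/-- The lifting property of a separated morphism, given the lifting property for proper morphisms of spaces. -/
theorem dvrLift_of_isSeparatedMor (h65 : ∀ {X Y : AlgSp.Space S} (f : X ⟶ Y), AlgSp.IsQuasiSeparatedMor f.hom →
      AlgSp.IsFiniteTypeMor f.hom → AlgSp.IsLocNoethSp Y.obj → AlgSp.IsProperMor f.hom → DvrExist f.hom)
    (h𝒳 : IsAlgStack Scheme.fppfPrecoverage 𝒳) (h𝒴 : IsAlgStack Scheme.fppfPrecoverage 𝒴)
    (f : 𝒳 ⥤ᵇ 𝒴) (hf : AlgSt.IsSeparatedMor f) : DvrLift f := by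
  intro A K _ _ _ _ _ _ str
  have hg𝒳 := h𝒳.isStack.1
  have hg𝒴 := h𝒴.isStack.1
  refine liftAt_of_secLift f hg𝒳 hg𝒴 _ fun x₁ x₂ φ => ?_
  obtain ⟨hsh, hA, hP⟩ := (K739.Rep.repPsh_iff (K739.Rep.isoInv_of_baseChange _ K739.Props.bc_proper) _).1
    ((K739.Diag.repByAlgSpWith_diag_iff _ f hg𝒳 hg𝒴).1 hf (Over.mk str) x₁ x₂ φ)
  have hY : AlgSp.IsLocNoethSp ((AlgSp.yon S).obj (Over.mk str)) :=
    ⟨Over.mk str, 𝟙 _, AlgSp.repWith_id _ _, AlgSp.repWith_id _ _,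
      inferInstanceAs (IsLocallyNoetherian (Spec (CommRingCat.of A)))⟩
  have := h65 (X := ⟨_, hA⟩) (Y := ⟨_, AlgSp.IsAlgSpace.yon_obj (Over.mk str)⟩) (ObjectProperty.homMk
    (ObjectProperty.homMk (K739.Isom.toBase f x₁ x₂ φ hg𝒳 hg𝒴))) (K739.Props.qs_of_sep hP.1) hP.2.1 hY hP
  exact (secLift_iff _ _).2 fun x y e => this A K str x y e

/-- Over a locally Noetherian base the sheaves `Isom_f` are proper. -/
theorem repPsh_proper (hg𝒳 : FibCat.IsFibGrpd 𝒳.p) (hg𝒴 : FibCat.IsFibGrpd 𝒴.p)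
    (h𝒴d : RepByAlgSpWith (AlgSp.IsSeparatedMor ⊓ AlgSp.IsQuasiCompactMor)
      (FibCat.diag (FibCat.toSelf 𝒴))) (f : 𝒳 ⥤ᵇ 𝒴)
    (hsep : RepByAlgSpWith AlgSp.IsSeparatedMor (FibCat.diag f))
    (hqc : RepByAlgSpWith AlgSp.IsQuasiCompactMor (FibCat.diag f))
    (hlft : RepByAlgSpWith (AlgSp.LocP @LocallyOfFiniteType) (FibCat.diag f)) (hf : DvrLift f)
    {W : Over S} (hW : IsLocallyNoetherian W.left) (x₁ x₂ : FibCat.overCat W ⥤ᵇ 𝒳)
    (φ : BasedFunctor.comp x₁ f ≅ BasedFunctor.comp x₂ f) :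
    K739.Rep.RepPsh AlgSp.IsProperMor (K739.Isom.toBase f x₁ x₂ φ hg𝒳 hg𝒴) := by
  obtain ⟨hsh, hA, h1⟩ := (K739.Rep.repPsh_iff (K739.Rep.isoInv_of_baseChange _ K739.Props.bc_sep) _).1
    ((K739.Diag.repByAlgSpWith_diag_iff _ f hg𝒳 hg𝒴).1 hsep W x₁ x₂ φ)
  obtain ⟨_, _, h2⟩ := (K739.Rep.repPsh_iff (K739.Rep.isoInv_of_baseChange _ K739.Props.bc_qc) _).1
    ((K739.Diag.repByAlgSpWith_diag_iff _ f hg𝒳 hg𝒴).1 hqc W x₁ x₂ φ)
  obtain ⟨_, _, h3⟩ := (K739.Rep.repPsh_iff (K739.Rep.isoInv_of_baseChange _ K739.Props.bc_lft) _).1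
    ((K739.Diag.repByAlgSpWith_diag_iff _ f hg𝒳 hg𝒴).1 hlft W x₁ x₂ φ)
  have hY : AlgSp.IsLocNoethSp ((AlgSp.yon S).obj W) :=
    ⟨W, 𝟙 _, AlgSp.repWith_id _ _, AlgSp.repWith_id _ _, hW⟩
  have huc := K604.ProperDvr.isUnivClosedMor_of_dvrExist (X := ⟨_, hA⟩)
    (Y := ⟨_, AlgSp.IsAlgSpace.yon_obj W⟩) (ObjectProperty.homMk
    (ObjectProperty.homMk (K739.Isom.toBase f x₁ x₂ φ hg𝒳 hg𝒴))) ⟨h3, h2⟩ hY (by
      intro A K _ _ _ _ _ _ str
      have hj := isSchemeTheoreticallyDominant_jj A K str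
      exact (secLift_iff _ _).1 (secLift_of_liftAt f x₁ x₂ φ hg𝒳 hg𝒴 (jj A K str) h𝒴d (hf A K str)))
  exact K739.Rep.repPsh_of _ hsh hA ⟨h1, ⟨h3, h2⟩, huc⟩

/-- Separatedness from the lifting property. -/
theorem isSeparatedMor_of_dvrLift
    (h𝒳 : IsAlgStack Scheme.fppfPrecoverage 𝒳)
    (h𝒳d : RepByAlgSpWith (AlgSp.IsSeparatedMor ⊓ AlgSp.IsQuasiCompactMor)
      (FibCat.diag (FibCat.toSelf 𝒳)))
    (h𝒴 : IsAlgStack Scheme.fppfPrecoverage 𝒴)
    (h𝒴d : RepByAlgSpWith (AlgSp.IsSeparatedMor ⊓ AlgSp.IsQuasiCompactMor)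
      (FibCat.diag (FibCat.toSelf 𝒴)))
    (f : 𝒳 ⥤ᵇ 𝒴) (hft : LocQ (AlgSp.LocP @LocallyOfFiniteType) f)
    (hN : SmoothLocally (fun X => IsLocallyNoetherian X) 𝒴) (hf : DvrLift f) :
    AlgSt.IsSeparatedMor f := by
  have hg𝒳 := h𝒳.isStack.1
  have hg𝒴 := h𝒴.isStack.1
  obtain ⟨W, ω, hW, hω, hωs⟩ := NoethAtlas.exists_atlas h𝒳 h𝒴 f hft hN
  -- separated, quasi-compact, locally of finite type
  have hsep : RepByAlgSpWith AlgSp.IsSeparatedMor (FibCat.diag f) :=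
    K739.Alg.repByAlgSpWith_diag_of_toSelf (K739.Rep.isoInv_of_baseChange _ K739.Props.bc_sep)
      (K739.Rep.isoInv_of_baseChange _ K739.Props.bc_sep) K739.Props.bc_sep (K739.Props.cancel_sep _)
      hg𝒳 hg𝒴 f (K739.Alg.repByAlgSpWith_mono (fun _ _ _ h => h.1) h𝒳d)
      (K739.Alg.repByAlgSpWith_mono (fun _ _ _ h => h.1) h𝒴d)
  have hqc : RepByAlgSpWith AlgSp.IsQuasiCompactMor (FibCat.diag f) :=
    K739.Alg.repByAlgSpWith_diag_of_toSelf (K739.Rep.isoInv_of_baseChange _ K739.Props.bc_qc)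
      (K739.Rep.isoInv_of_baseChange _ K739.Props.bc_qs) K739.Props.bc_qc K739.Props.cancel_qc
      hg𝒳 hg𝒴 f (K739.Alg.repByAlgSpWith_mono (fun _ _ _ h => h.2) h𝒳d)
      (K739.Alg.repByAlgSpWith_mono (fun _ _ _ h => K739.Props.qs_of_sep h.1) h𝒴d)
  have hlft : RepByAlgSpWith (AlgSp.LocP @LocallyOfFiniteType) (FibCat.diag f) :=
    K738.Lft.repByAlgSpWith_lft_diag h𝒳 h𝒴 f
  -- the base change to the atlas
  have hR : K739.Rep.RepAt AlgSp.IsProperMor (FibCat.fpFst ω (FibCat.diag f)) := by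
    rw [K739.Isom.y_eq f ω, K739.Rep.repAt_iff_repPsh _ _ (K739.Isom.isEquivOver_toFp f _ _ _ hg𝒳 hg𝒴),
      K739.Isom.prMap_toFp]
    exact repPsh_proper hg𝒳 hg𝒴 h𝒴d f hsep hqc hlft hf hW _ _ _
  obtain ⟨F₀, e₀, he₀, hP⟩ := hR
  refine K745.Refine.repByAlgSpWith_of_atlas hω hωs (K739.Alg.repByAlgSp1_of hsep) _ ?_ ?_ F₀.property e₀ he₀ hP
  · intro F F' U U' a g p₁ p₂ hF hF' sq ha
    exact K739.Props.bc_proper hF (AlgSp.IsAlgSpace.yon_obj _) hF' (AlgSp.IsAlgSpace.yon_obj _) _ _ _ _ sq ha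
  · intro F F' U U' a g p₁ p₂ hF hF' hg hgs sq ha
    refine K739.Props.fppfDesc_proper hF (AlgSp.IsAlgSpace.yon_obj _) hF' a _ _ _ ?_ sq ha
    exact (AlgSp.repWith_yon_map_iff _ _).2 ⟨⟨hgs, inferInstance⟩, inferInstance⟩

end K863.SepCore
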