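import Groth.Agent.IsoNat.K863.Corr
import Groth.Agent.AlgSt.K735.Pts

/-!
# Correspondence of objects under an `IsoNat.FIsoSq`, and of points under an `IsoNat.FIso`
-/

set_option autoImplicit false
set_option backward.isDefEq.respectTransparency false
set_option backward.isDefEq.respectTransparency.types false

universe u

open CategoryTheory AlgebraicGeometry

namespace K863.Sq

open K863.Arr K863.Corr AlgSt

variable {S : Scheme.{u}}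

section Map

variable {𝒳 𝒴 𝒳' 𝒴' : AlgSt.Cat S} {f : 𝒳 ⥤ᵇ 𝒴} {f' : 𝒳' ⥤ᵇ 𝒴'}

theorem mapCls_cls (f : 𝒳 ⥤ᵇ 𝒴) {T : Over S} {x : 𝒳.obj} (hx : 𝒳.p.obj x = T) :
    IsoNat.mapCls f T (IsoNat.cls ⟨x, hx⟩) = IsoNat.cls ⟨f.obj x, (f.w_obj x).trans hx⟩ := by
  subst hx; rfl

/-- Images of corresponding objects correspond. -/
theorem corr_map (φ : IsoNat.FIsoSq f f') {T : Over S} {x : 𝒳.obj} {x' : 𝒳'.obj}
    {hx : 𝒳.p.obj x = T} {hx' : 𝒳'.p.obj x' = T} (h : Corr φ.src hx hx') :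
    Corr φ.tgt ((f.w_obj x).trans hx) ((f'.w_obj x').trans hx') := by
  have := φ.comm T (IsoNat.cls ⟨x, hx⟩)
  unfold Corr at h ⊢
  rw [mapCls_cls, h, mapCls_cls] at this
  exact this

/-- The inverse isomorphism of squares. -/
def symm (φ : IsoNat.FIsoSq f f') (h𝒳 : FibCat.IsFibGrpd 𝒳.p) (h𝒴 : FibCat.IsFibGrpd 𝒴.p)
    (h𝒳' : FibCat.IsFibGrpd 𝒳'.p) (h𝒴' : FibCat.IsFibGrpd 𝒴'.p) : IsoNat.FIsoSq f' f where
  src := Corr.symm φ.src h𝒳 h𝒳'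
  tgt := Corr.symm φ.tgt h𝒴 h𝒴'
  comm T c := by
    change (φ.tgt.toEquiv T).symm (IsoNat.mapCls f' T c) = IsoNat.mapCls f T ((φ.src.toEquiv T).symm c)
    rw [Equiv.symm_apply_eq, φ.comm, Equiv.apply_symm_apply]

end Map

section Pts

variable {𝒳 𝒴 : AlgSt.Cat S} {φ : IsoNat.FIso 𝒳 𝒴}

/-- Corresponding field-valued points. -/
def PCorr (φ : IsoNat.FIso 𝒳 𝒴) (p : FPt 𝒳) (q : FPt 𝒴) : Prop :=
  ∃ (K : Type u) (_ : Field K) (str : Spec (CommRingCat.of K) ⟶ S) (x : 𝒳.obj) (y : 𝒴.obj)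
    (hx : 𝒳.p.obj x = Over.mk str) (hy : 𝒴.p.obj y = Over.mk str), Corr φ hx hy ∧
      p = ⟨K, str, x, hx⟩ ∧ q = ⟨K, str, y, hy⟩

theorem exists_pcorr_right (φ : IsoNat.FIso 𝒳 𝒴) (p : FPt 𝒳) : ∃ q : FPt 𝒴, PCorr φ p q := by
  obtain ⟨K, str, x, hx⟩ := p
  obtain ⟨y, hy, h⟩ := exists_right φ hx
  exact ⟨⟨K, str, y, hy⟩, K, _, str, x, y, hx, hy, h, rfl, rfl⟩

theorem exists_pcorr_left (φ : IsoNat.FIso 𝒳 𝒴) (q : FPt 𝒴) : ∃ p : FPt 𝒳, PCorr φ p q := by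
  obtain ⟨K, str, y, hy⟩ := q
  obtain ⟨x, hx, h⟩ := exists_left φ hy
  exact ⟨⟨K, str, x, hx⟩, K, _, str, x, y, hx, hy, h, rfl, rfl⟩

/-- An arrow between the objects of field-valued points gives one between corresponding objects. -/
theorem pcorr_arrow_right (h𝒴 : FibCat.IsFibGrpd 𝒴.p) {p p' : FPt 𝒳} {q q' : FPt 𝒴}
    (h : PCorr φ p q) (h' : PCorr φ p' q') (a : p'.obj ⟶ p.obj) : Nonempty (q'.obj ⟶ q.obj) := by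
  obtain ⟨K, _, str, x, y, hx, hy, h, rfl, rfl⟩ := h
  obtain ⟨K', _, str', x', y', hx', hy', h', rfl, rfl⟩ := h'
  have ha : 𝒳.p.IsHomLift (eqToHom hx'.symm ≫ 𝒳.p.map a ≫ eqToHom hx) a := by
    refine IsHomLift.of_fac' 𝒳.p _ _ hx' hx ?_
    simp
  obtain ⟨b, -⟩ := arrow_right h𝒴 h h' a ha
  exact ⟨b⟩

theorem pcorr_arrow_left (h𝒳 : FibCat.IsFibGrpd 𝒳.p) (h𝒴 : FibCat.IsFibGrpd 𝒴.p) {p p' : FPt 𝒳}
    {q q' : FPt 𝒴} (h : PCorr φ p q) (h' : PCorr φ p' q') (b : q'.obj ⟶ q.obj) :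
    Nonempty (p'.obj ⟶ p.obj) := by
  obtain ⟨K, _, str, x, y, hx, hy, h, rfl, rfl⟩ := h
  obtain ⟨K', _, str', x', y', hx', hy', h', rfl, rfl⟩ := h'
  have hb : 𝒴.p.IsHomLift (eqToHom hy'.symm ≫ 𝒴.p.map b ≫ eqToHom hy) b := by
    refine IsHomLift.of_fac' 𝒴.p _ _ hy' hy ?_
    simp
  obtain ⟨a, -⟩ := arrow_left h𝒳 h𝒴 h h' b hb
  exact ⟨a⟩

theorem rel_right (h𝒴 : FibCat.IsFibGrpd 𝒴.p) {p p' : FPt 𝒳} {q q' : FPt 𝒴}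
    (h : PCorr φ p q) (h' : PCorr φ p' q') (hr : FPt.Rel p p') : FPt.Rel q q' := by
  obtain ⟨r, a, b, -⟩ := hr
  obtain ⟨s, hs⟩ := exists_pcorr_right φ r
  obtain ⟨a'⟩ := pcorr_arrow_right h𝒴 h hs a
  obtain ⟨b'⟩ := pcorr_arrow_right h𝒴 h' hs b
  exact ⟨s, a', b', trivial⟩

theorem rel_left (h𝒳 : FibCat.IsFibGrpd 𝒳.p) (h𝒴 : FibCat.IsFibGrpd 𝒴.p) {p p' : FPt 𝒳}
    {q q' : FPt 𝒴} (h : PCorr φ p q) (h' : PCorr φ p' q') (hr : FPt.Rel q q') : FPt.Rel p p' := by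
  obtain ⟨r, a, b, -⟩ := hr
  obtain ⟨s, hs⟩ := exists_pcorr_left φ r
  obtain ⟨a'⟩ := pcorr_arrow_left h𝒳 h𝒴 h hs a
  obtain ⟨b'⟩ := pcorr_arrow_left h𝒳 h𝒴 h' hs b
  exact ⟨s, a', b', trivial⟩

variable (φ) in
/-- The map on points induced by an isomorphism of presheaves of classes. -/
noncomputable def ptsFun (h𝒴 : FibCat.IsFibGrpd 𝒴.p) : Points 𝒳 → Points 𝒴 :=
  Quot.lift (fun p => Points.mk (exists_pcorr_right φ p).choose) (fun p p' h =>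
    Points.sound (rel_right h𝒴 (exists_pcorr_right φ p).choose_spec
      (exists_pcorr_right φ p').choose_spec h))

theorem ptsFun_mk (h𝒴 : FibCat.IsFibGrpd 𝒴.p) {p : FPt 𝒳} {q : FPt 𝒴} (h : PCorr φ p q) :
    ptsFun φ h𝒴 (Points.mk p) = Points.mk q :=
  Points.sound (rel_right h𝒴 (exists_pcorr_right φ p).choose_spec h ⟨p, 𝟙 _, 𝟙 _, trivial⟩)

theorem ptsFun_bijective (h𝒳 : FibCat.IsFibGrpd 𝒳.p) (h𝒴 : FibCat.IsFibGrpd 𝒴.p) :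
    Function.Bijective (ptsFun φ h𝒴) := by
  constructor
  · intro a b h
    obtain ⟨p, rfl⟩ := Points.mk_surjective a
    obtain ⟨p', rfl⟩ := Points.mk_surjective b
    obtain ⟨q, hq⟩ := exists_pcorr_right φ p
    obtain ⟨q', hq'⟩ := exists_pcorr_right φ p'
    rw [ptsFun_mk h𝒴 hq, ptsFun_mk h𝒴 hq', K735.Pts.mk_eq_mk_iff h𝒴] at h
    exact Points.sound (rel_left h𝒳 h𝒴 hq hq' h)
  · intro b
    obtain ⟨q, rfl⟩ := Points.mk_surjective b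
    obtain ⟨p, hp⟩ := exists_pcorr_left φ q
    exact ⟨Points.mk p, ptsFun_mk h𝒴 hp⟩

end Pts

section SqPts

variable {𝒳 𝒴 𝒳' 𝒴' : AlgSt.Cat S} {f : 𝒳 ⥤ᵇ 𝒴} {f' : 𝒳' ⥤ᵇ 𝒴'}

theorem pcorr_map (φ : IsoNat.FIsoSq f f') {p : FPt 𝒳} {p' : FPt 𝒳'} (h : PCorr φ.src p p') :
    PCorr φ.tgt (p.map f) (p'.map f') := by
  obtain ⟨K, _, str, x, y, hx, hy, h, rfl, rfl⟩ := h
  exact ⟨K, inferInstance, str, f.obj x, f'.obj y, (f.w_obj x).trans hx, (f'.w_obj y).trans hy,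
    corr_map φ h, rfl, rfl⟩

theorem ptsFun_map (φ : IsoNat.FIsoSq f f') (h𝒳' : FibCat.IsFibGrpd 𝒳'.p)
    (h𝒴' : FibCat.IsFibGrpd 𝒴'.p) (a : Points 𝒳) :
    ptsFun φ.tgt h𝒴' (Points.map f a) = Points.map f' (ptsFun φ.src h𝒳' a) := by
  obtain ⟨p, rfl⟩ := Points.mk_surjective a
  obtain ⟨q, hq⟩ := exists_pcorr_right φ.src p
  rw [ptsFun_mk h𝒳' hq]
  exact ptsFun_mk h𝒴' (pcorr_map φ hq)

/-- Surjectivity on points transfers. -/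
theorem isSurjective_right (φ : IsoNat.FIsoSq f f') (h𝒴 : FibCat.IsFibGrpd 𝒴.p)
    (h𝒳' : FibCat.IsFibGrpd 𝒳'.p) (h𝒴' : FibCat.IsFibGrpd 𝒴'.p) (hf : IsSurjective f) :
    IsSurjective f' := by
  intro b
  obtain ⟨c, rfl⟩ := (ptsFun_bijective (φ := φ.tgt) h𝒴 h𝒴').2 b
  obtain ⟨a, rfl⟩ := hf c
  exact ⟨_, (ptsFun_map φ h𝒳' h𝒴' a).symm⟩

end SqPts

end K863.Sq
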