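import Groth.Agent.IsoNat.K863.VLift
import Groth.Agent.IsoNat.K863.Dens
import Groth.Agent.AlgSt.K739.Diag
import Groth.Agent.AlgSp.K604.DvrClosed

/-!
# The lifting property of objects and the valuative property of the sheaves `Isom_f(x₁, x₂; φ)`
-/

set_option autoImplicit false
set_option backward.isDefEq.respectTransparency false
set_option backward.isDefEq.respectTransparency.types false

universe u

open CategoryTheory CategoryTheory.Limits AlgebraicGeometry Opposite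

namespace K863.VIsom

open K863.Arr K863.VLift K739.Isom K739.Diag

variable {S : Scheme.{u}}

section Sec

/-- Lifting of sections along `j`. -/
def SecLift {F G : AlgSp.PSp S} (π : F ⟶ G) {W T : Over S} (j : W ⟶ T) : Prop :=
  ∀ (x : F.obj (op W)) (y : G.obj (op T)), π.app (op W) x = G.map j.op y →
    ∃ l : F.obj (op T), F.map j.op l = x ∧ π.app (op T) l = y

variable {F G : AlgSp.Sp S} (π : F ⟶ G) {W T : Over S} (j : W ⟶ T)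

theorem secLift_iff : SecLift π.hom j ↔ ∀ (x : (AlgSp.yon S).obj W ⟶ F) (y : (AlgSp.yon S).obj T ⟶ G),
    x ≫ π = (AlgSp.yon S).map j ≫ y → ∃ l : (AlgSp.yon S).obj T ⟶ F,
      (AlgSp.yon S).map j ≫ l = x ∧ l ≫ π = y := by
  let Y : ∀ (F : AlgSp.Sp S) (T : Over S), ((AlgSp.yon S).obj T ⟶ F) ≃ F.obj.obj (op T) := fun F T =>
    (AlgSp.J S).uliftYonedaEquiv.{u + 1}
  have hc : ∀ (T : Over S) (x : (AlgSp.yon S).obj T ⟶ F), Y G T (x ≫ π) = π.hom.app (op T) (Y F T x) :=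
    fun T x => GrothendieckTopology.uliftYonedaEquiv_comp _ _ _
  have hn : ∀ (F : AlgSp.Sp S) (x : (AlgSp.yon S).obj T ⟶ F),
      Y F W ((AlgSp.yon S).map j ≫ x) = F.obj.map j.op (Y F T x) :=
    fun F x => (GrothendieckTopology.uliftYonedaEquiv_naturality _ _ _).symm
  constructor
  · intro h x y e
    obtain ⟨l, hl, hl'⟩ := h (Y F W x) (Y G T y) (by rw [← hc, ← hn, e])
    refine ⟨(Y F T).symm l, ?_, ?_⟩
    · apply (Y F W).injective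
      rw [hn, Equiv.apply_symm_apply, hl]
    · apply (Y G T).injective
      rw [hc, Equiv.apply_symm_apply, hl']
  · intro h x y e
    obtain ⟨l, hl, hl'⟩ := h ((Y F W).symm x) ((Y G T).symm y) (by
      apply (Y G W).injective
      rw [hc, hn, Equiv.apply_symm_apply, Equiv.apply_symm_apply, e])
    refine ⟨Y F T l, ?_, ?_⟩
    · rw [← hn, hl, Equiv.apply_symm_apply]
    · rw [← hc, hl', Equiv.apply_symm_apply]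

end Sec

variable {𝒳 𝒴 : AlgSt.Cat S} (f : 𝒳 ⥤ᵇ 𝒴)

section Core

variable {U : Over S} (x₁ x₂ : FibCat.overCat U ⥤ᵇ 𝒳)
  (φ : BasedFunctor.comp x₁ f ≅ BasedFunctor.comp x₂ f) (h𝒳 : FibCat.IsFibGrpd 𝒳.p)
  (h𝒴 : FibCat.IsFibGrpd 𝒴.p)

/-- The lifting property for objects gives the lifting property for sections of `Isom_f`. -/
theorem secLift_of_liftAt {W T : Over S} (j : W ⟶ T) [IsSchemeTheoreticallyDominant j.left]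
    (h𝒴d : AlgSt.RepByAlgSpWith (AlgSp.IsSeparatedMor ⊓ AlgSp.IsQuasiCompactMor)
      (FibCat.diag (FibCat.toSelf 𝒴))) (hf : LiftAt f j) :
    SecLift (toBase f x₁ x₂ φ h𝒳 h𝒴) j := by
  rintro s ⟨v⟩ e
  obtain ⟨w, ψ, hl, hc⟩ := s
  have e1 : w = j ≫ v := congrArg ULift.down e
  subst e1
  have hr₁ : 𝒳.p.IsHomLift j (x₁.map (arr j rfl : pt (j ≫ v) ⟶ pt v)) :=
    map_lift x₁ (IsHomLift.map (FibCat.overCat U).p (arr j rfl : pt (j ≫ v) ⟶ pt v))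
  have hr₂ : 𝒳.p.IsHomLift j (x₂.map (arr j rfl : pt (j ≫ v) ⟶ pt v)) :=
    map_lift x₂ (IsHomLift.map (FibCat.overCat U).p (arr j rfl : pt (j ≫ v) ⟶ pt v))
  have hγ : 𝒴.p.IsHomLift (𝟙 T) (φ.hom.toNatTrans.app (pt v)) := φ.hom.isHomLift' (pt v)
  have hnat := φ.hom.toNatTrans.naturality (arr j rfl : pt (j ≫ v) ⟶ pt v)
  change f.map (x₁.map _) ≫ _ = _ ≫ f.map (x₂.map _) at hnat
  have key : f.map (x₁.map (arr j rfl : pt (j ≫ v) ⟶ pt v)) ≫ φ.hom.toNatTrans.app (pt v) =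
      f.map (ψ ≫ x₂.map (arr j rfl : pt (j ≫ v) ⟶ pt v)) := by
    rw [f.map_comp, hc]
    exact hnat
  obtain ⟨α, hα, hα'⟩ := hf (x₁.map (arr j rfl : pt (j ≫ v) ⟶ pt v))
    (ψ ≫ x₂.map (arr j rfl : pt (j ≫ v) ⟶ pt v)) (φ.hom.toNatTrans.app (pt v)) hr₁
    (lift_id_comp hl hr₂) hγ key
  have hfα : f.map α = φ.hom.toNatTrans.app (pt v) := by
    refine Dens.hom_ext h𝒴 h𝒴d j inferInstance (map_lift f hr₁) (map_lift f hα) hγ ?_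
    rw [key, ← f.map_comp, hα']
  refine ⟨(⟨v, α, hα, hfα⟩ : Sec f x₁ x₂ φ T), ?_, rfl⟩
  exact (map_eq_iff h𝒳 h𝒴 j _ _).2 ⟨rfl, hα'⟩

end Core

section Conv

variable {f} in
/-- An arrow of images as a 2-isomorphism between the functors of pullbacks. -/
theorem exists_iso (h𝒳 : FibCat.IsFibGrpd 𝒳.p) (h𝒴 : FibCat.IsFibGrpd 𝒴.p) {T : Over S}
    {x₁ x₂ : 𝒳.obj} (hx₁ : 𝒳.p.obj x₁ = T) (hx₂ : 𝒳.p.obj x₂ = T) (γ : f.obj x₁ ⟶ f.obj x₂)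
    (hγ : 𝒴.p.IsHomLift (𝟙 T) γ) :
    ∃ φ : BasedFunctor.comp (Glue.yon h𝒳 x₁ hx₁) f ≅ BasedFunctor.comp (Glue.yon h𝒳 x₂ hx₂) f,
      ∀ A : Over T, φ.hom.toNatTrans.app A ≫ f.map (Glue.yArr h𝒳 x₂ hx₂ A) =
        f.map (Glue.yArr h𝒳 x₁ hx₁ A) ≫ γ := by
  have key : ∀ A : Over T, ∃ χ : f.obj (Glue.yObj h𝒳 x₁ hx₁ A) ⟶ f.obj (Glue.yObj h𝒳 x₂ hx₂ A),
      𝒴.p.IsHomLift (𝟙 A.left) χ ∧ χ ≫ f.map (Glue.yArr h𝒳 x₂ hx₂ A) =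
        f.map (Glue.yArr h𝒳 x₁ hx₁ A) ≫ γ := fun A =>
    exists_restr h𝒴 (map_lift f (Glue.yArr_lift h𝒳 x₁ hx₁ A)) (map_lift f (Glue.yArr_lift h𝒳 x₂ hx₂ A)) hγ
  choose χ hχ hχ' using key
  have hI : ∀ A : Over T, IsIso (χ A) := fun A => isIso_of_id h𝒴 (hχ A)
  refine ⟨BasedNatIso.mkNatIso (NatIso.ofComponents
    (fun A : Over T => @asIso _ _ _ _ (χ A) (hI A)) (fun {A B} m => ?_)) (fun A => hχ A), hχ'⟩
  refine fac_unique h𝒴 (f.map (Glue.yArr h𝒳 x₂ hx₂ B)) (g := m.left)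
    (lift_comp_id (map_lift f (Glue.yMap_lift h𝒳 x₁ hx₁ m)) (hχ B))
    (lift_id_comp (hχ A) (map_lift f (Glue.yMap_lift h𝒳 x₂ hx₂ m))) ?_
  change (f.map (Glue.yMap h𝒳 x₁ hx₁ m) ≫ χ B) ≫ _ = (χ A ≫ f.map (Glue.yMap h𝒳 x₂ hx₂ m)) ≫ _
  rw [Category.assoc, hχ', Category.assoc, ← f.map_comp, Glue.yMap_fac, hχ', ← Category.assoc,
    ← f.map_comp, Glue.yMap_fac]

/-- The lifting property for sections of `Isom_f` gives the lifting property for objects. -/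
theorem liftAt_of_secLift (h𝒳 : FibCat.IsFibGrpd 𝒳.p) (h𝒴 : FibCat.IsFibGrpd 𝒴.p) {W T : Over S}
    (j : W ⟶ T) (H : ∀ (x₁ x₂ : FibCat.overCat T ⥤ᵇ 𝒳)
      (φ : BasedFunctor.comp x₁ f ≅ BasedFunctor.comp x₂ f), SecLift (toBase f x₁ x₂ φ h𝒳 h𝒴) j) :
    LiftAt f j := by
  intro x₁ x₂ k r₁ r₂ γ hr₁ hr₂ hγ e
  obtain ⟨φ, hφ⟩ := exists_iso h𝒳 h𝒴 (cod hr₁) (cod hr₂) γ hγ
  let y₁ := Glue.yon h𝒳 x₁ (cod hr₁)
  let y₂ := Glue.yon h𝒳 x₂ (cod hr₂)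
  let a₁ : ∀ A : Over T, Glue.yObj h𝒳 x₁ (cod hr₁) A ⟶ x₁ := fun A => Glue.yArr h𝒳 x₁ (cod hr₁) A
  let a₂ : ∀ A : Over T, Glue.yObj h𝒳 x₂ (cod hr₂) A ⟶ x₂ := fun A => Glue.yArr h𝒳 x₂ (cod hr₂) A
  let J : Over T := Over.mk (j ≫ 𝟙 T)
  have hJ₁ : 𝒳.p.IsHomLift j (a₁ J) := by
    have := Glue.yArr_lift h𝒳 x₁ (cod hr₁) J
    change 𝒳.p.IsHomLift (j ≫ 𝟙 T) _ at this
    rwa [Category.comp_id] at this
  have hJ₂ : 𝒳.p.IsHomLift j (a₂ J) := by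
    have := Glue.yArr_lift h𝒳 x₂ (cod hr₂) J
    change 𝒳.p.IsHomLift (j ≫ 𝟙 T) _ at this
    rwa [Category.comp_id] at this
  obtain ⟨b₁, hb₁, eb₁⟩ := exists_vert h𝒳 hr₁ hJ₁
  obtain ⟨b₂, hb₂, eb₂⟩ := exists_vert h𝒳 hJ₂ hr₂
  have hψ : 𝒳.p.IsHomLift (𝟙 W) (b₁ ≫ b₂) := lift_comp_id hb₁ hb₂
  have hψφ : f.map (b₁ ≫ b₂) = φ.hom.toNatTrans.app J := by
    refine fac_unique h𝒴 (f.map (a₂ J)) (map_lift f hψ) (φ.hom.isHomLift' J) ?_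
    refine Eq.trans ?_ (hφ J).symm
    rw [← f.map_comp, Category.assoc, eb₂, f.map_comp, ← e, ← Category.assoc, ← f.map_comp, eb₁]
  obtain ⟨s, hs, hs'⟩ := H y₁ y₂ φ (⟨j ≫ 𝟙 T, b₁ ≫ b₂, hψ, hψφ⟩ : Sec f y₁ y₂ φ W) ⟨𝟙 T⟩ rfl
  obtain ⟨v, α, hα, hαφ⟩ := s
  have hv : v = 𝟙 T := congrArg ULift.down hs'
  subst hv
  obtain ⟨h1, h2⟩ := (map_eq_iff h𝒳 h𝒴 j _ _).1 hs
  let I : Over T := Over.mk (𝟙 T)
  have hI₁ : 𝒳.p.IsHomLift (𝟙 T) (a₁ I) := Glue.yArr_lift h𝒳 x₁ (cod hr₁) I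
  have hI₂ : 𝒳.p.IsHomLift (𝟙 T) (a₂ I) := Glue.yArr_lift h𝒳 x₂ (cod hr₂) I
  have isoI : IsIso (a₁ I) := isIso_of_id h𝒳 hI₁
  have isob : IsIso b₁ := isIso_of_id h𝒳 hb₁
  refine ⟨inv (a₁ I) ≫ α ≫ a₂ I, lift_id_comp (lift_inv hI₁) (lift_id_comp hα hI₂), ?_⟩
  rw [← cancel_epi b₁]
  let m : (J : Over T) ⟶ I := Over.homMk j rfl
  have e3 : Glue.yMap h𝒳 x₁ (cod hr₁) m ≫ a₁ I = b₁ ≫ r₁ := by
    rw [eb₁]; exact Glue.yMap_fac h𝒳 x₁ (cod hr₁) m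
  have e4 : Glue.yMap h𝒳 x₂ (cod hr₂) m ≫ a₂ I = a₂ J := Glue.yMap_fac h𝒳 x₂ (cod hr₂) m
  have e5 : Glue.yMap h𝒳 x₁ (cod hr₁) m ≫ α = (b₁ ≫ b₂) ≫ Glue.yMap h𝒳 x₂ (cod hr₂) m := h2
  calc b₁ ≫ r₁ ≫ inv (a₁ I) ≫ α ≫ a₂ I = (b₁ ≫ r₁) ≫ inv (a₁ I) ≫ α ≫ a₂ I := by
        rw [Category.assoc]
    _ = (Glue.yMap h𝒳 x₁ (cod hr₁) m ≫ a₁ I) ≫ inv (a₁ I) ≫ α ≫ a₂ I := by rw [e3]
    _ = (Glue.yMap h𝒳 x₁ (cod hr₁) m ≫ α) ≫ a₂ I := by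
        rw [Category.assoc, IsIso.hom_inv_id_assoc, Category.assoc]
    _ = (b₁ ≫ b₂) ≫ a₂ J := by rw [e5, Category.assoc, e4]
    _ = b₁ ≫ r₂ := by rw [Category.assoc, eb₂]

end Conv

end K863.VIsom
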