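import Groth.Agent.IsoNat.K863.Sq
import Groth.Agent.IsoNat.K863.Pair
import Groth.Agent.IsoNat.K864.Doubled

/-!
# Transfer of the valuative lifting property of the diagonal under an `IsoNat.FIsoSq`
-/

set_option autoImplicit false
set_option backward.isDefEq.respectTransparency false
set_option backward.isDefEq.respectTransparency.types false

universe u

open CategoryTheory CategoryTheory.Limits AlgebraicGeometry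

namespace K863.VLift

open K863.Arr K863.Corr K863.Sq K863.Pair

variable {S : Scheme.{u}}

section Defs

variable {𝒳 𝒴 : AlgSt.Cat S}

/-- Isomorphisms of objects of `𝒳` over `T` defined over `W` and extending over `T` in `𝒴` extend over `T` in `𝒳`. -/
def LiftAt (f : 𝒳 ⥤ᵇ 𝒴) {W T : Over S} (j : W ⟶ T) : Prop :=
  ∀ ⦃x₁ x₂ k : 𝒳.obj⦄ (r₁ : k ⟶ x₁) (r₂ : k ⟶ x₂) (γ : f.obj x₁ ⟶ f.obj x₂),
    𝒳.p.IsHomLift j r₁ → 𝒳.p.IsHomLift j r₂ → 𝒴.p.IsHomLift (𝟙 T) γ → f.map r₁ ≫ γ = f.map r₂ →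
      ∃ α : x₁ ⟶ x₂, 𝒳.p.IsHomLift (𝟙 T) α ∧ r₁ ≫ α = r₂

end Defs

theorem isOpenPair_glue {W T : Over S} (j : W ⟶ T) [IsOpenImmersion j.left] :
    IsOpenPair (K864.Doubled.inl j j) (K864.Doubled.inr j j) j j where
  open₁ := inferInstance
  open₂ := inferInstance
  cover x := by
    rcases K864.Doubled.exists_or j j x with ⟨a, ha⟩ | ⟨b, hb⟩
    · exact Or.inl ⟨a, ha⟩
    · exact Or.inr ⟨b, hb⟩
  pb := K864.Doubled.isPullback j j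

theorem cancel_aux {C : Type*} [Category C] {k a b e : C} (p : k ⟶ a) (q : k ⟶ b) (ζ₁ : a ⟶ e)
    (ζ₂ : b ⟶ e) (Γ : e ⟶ b) [IsIso (ζ₂ ≫ Γ)] (h : p ≫ ζ₁ = q ≫ ζ₂) :
    p ≫ (ζ₁ ≫ Γ) ≫ inv (ζ₂ ≫ Γ) = q := by
  rw [Category.assoc, reassoc_of% h]
  have := IsIso.hom_inv_id (ζ₂ ≫ Γ)
  rw [Category.assoc] at this
  rw [this, Category.comp_id]

variable {𝒳 𝒴 𝒳' 𝒴' : AlgSt.Cat S} {f : 𝒳 ⥤ᵇ 𝒴} {f' : 𝒳' ⥤ᵇ 𝒴'}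

/-- The lifting property transfers under isomorphisms of presheaves of isomorphism classes. -/
theorem liftAt_right (φ : IsoNat.FIsoSq f f') (h𝒳 : Stk.IsStack (AlgSp.J S) 𝒳)
    (h𝒴 : FibCat.IsFibGrpd 𝒴.p) (h𝒳' : Stk.IsStack (AlgSp.J S) 𝒳')
    (h𝒴' : Stk.IsStack (AlgSp.J S) 𝒴') {W T : Over S} (j : W ⟶ T) [IsOpenImmersion j.left]
    (hf : LiftAt f j) : LiftAt f' j := by
  intro x₁' x₂' k' r₁' r₂' γ' hr₁' hr₂' hγ' hc'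
  have hp := isOpenPair_glue j
  let i₁ := K864.Doubled.inl j j
  let i₂ := K864.Doubled.inr j j
  let fold : K864.Doubled.glue j j ⟶ T := K864.Doubled.desc (𝟙 T) (𝟙 T) rfl
  have hi₁ : i₁ ≫ fold = 𝟙 T := K864.Doubled.inl_desc _ _ _
  have hi₂ : i₂ ≫ fold = 𝟙 T := K864.Doubled.inr_desc _ _ _
  -- glue
  obtain ⟨E', ζ₁', ζ₂', hζ₁', hζ₂', hE'⟩ := exists_obj h𝒳' hp hr₁' hr₂'
  have hx₂' : 𝒳'.p.obj x₂' = T := cod hr₂'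
  have hE'o : 𝒳'.p.obj E' = K864.Doubled.glue j j := cod hζ₁'
  obtain ⟨Γ', hΓ', -, -⟩ := exists_hom h𝒴' hp (map_lift f' hr₁') (map_lift f' hr₂')
    (map_lift f' hζ₁') (map_lift f' hζ₂')
    (by rw [← f'.map_comp, hE', f'.map_comp]) (W := T) (g := fold) (w := f'.obj x₂') (γ₁ := γ')
    (γ₂ := 𝟙 _) (by rw [hi₁]; exact hγ')
    (by rw [hi₂]; exact lift_id ((f'.w_obj x₂').trans hx₂')) (by rw [hc', Category.comp_id])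
  -- transfer
  obtain ⟨x₂, hx₂, c₂⟩ := exists_left φ.src hx₂'
  obtain ⟨E, hE, cE⟩ := exists_left φ.src hE'o
  obtain ⟨ζ₂, hζ₂⟩ := arrow_left h𝒳.1 h𝒳'.1 cE c₂ ζ₂' hζ₂'
  obtain ⟨Γ, hΓ⟩ := arrow_left h𝒴 h𝒴'.1 (corr_map φ c₂) (corr_map φ cE) Γ' hΓ'
  obtain ⟨x₁, ζ₁, hζ₁⟩ := exists_lift h𝒳.1 hE i₁
  obtain ⟨k, r₂, hr₂⟩ := exists_lift h𝒳.1 hx₂ j
  obtain ⟨r₁, hr₁, er⟩ := exists_fac h𝒳.1 hζ₁ (lift_comp hr₂ hζ₂) (K864.Doubled.condition j j)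
  have hτ₁ : 𝒴.p.IsHomLift (𝟙 T) (f.map ζ₁ ≫ Γ) := lift_comp' (map_lift f hζ₁) hΓ hi₁
  have hτ₂ : 𝒴.p.IsHomLift (𝟙 T) (f.map ζ₂ ≫ Γ) := lift_comp' (map_lift f hζ₂) hΓ hi₂
  have iso₂ : IsIso (f.map ζ₂ ≫ Γ) := isIso_of_id h𝒴 hτ₂
  obtain ⟨α, hα, eα⟩ := hf r₁ r₂ ((f.map ζ₁ ≫ Γ) ≫ inv (f.map ζ₂ ≫ Γ)) hr₁ hr₂
    (lift_id_comp hτ₁ (lift_inv hτ₂))
    (cancel_aux _ _ _ _ _ (by rw [← f.map_comp, er, f.map_comp]))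
  obtain ⟨G, hG, -, -⟩ := exists_hom h𝒳 hp hr₁ hr₂ hζ₁ hζ₂ er (W := T) (g := fold)
    (w := x₂) (γ₁ := α) (γ₂ := 𝟙 _) (by rw [hi₁]; exact hα)
    (by rw [hi₂]; exact lift_id hx₂) (by rw [eα, Category.comp_id])
  obtain ⟨G', hG'⟩ := arrow_right h𝒳'.1 c₂ cE G hG
  have hσ₁ : 𝒳'.p.IsHomLift (𝟙 T) (ζ₁' ≫ G') := lift_comp' hζ₁' hG' hi₁
  have hσ₂ : 𝒳'.p.IsHomLift (𝟙 T) (ζ₂' ≫ G') := lift_comp' hζ₂' hG' hi₂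
  have iso₂' : IsIso (ζ₂' ≫ G') := isIso_of_id h𝒳'.1 hσ₂
  refine ⟨(ζ₁' ≫ G') ≫ inv (ζ₂' ≫ G'), lift_id_comp hσ₁ (lift_inv hσ₂),
    cancel_aux _ _ _ _ _ hE'⟩

end K863.VLift
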